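import Cfsg.Agent.Lib.KnownB.G2FourMult.Code

/-! Checks of the certificates for the double cover of the group of type G2 over four elements. -/

set_option autoImplicit false
set_option maxRecDepth 100000
set_option Elab.async false
set_option maxHeartbeats 2000000

namespace CfsgLib.KnownB.G2FourMult

open CfsgLib.KnownB.Mult

/-- values of the words at `2` -/
def tab2 : List (List ℕ) := cert2.σ ++ [conj2_0, conj2_1]

/-- values of the words at `3` -/
def tab3 : List (List ℕ) := cert3.σ ++ [conj3_0]

/-- values of the words at `5` -/
def tab5 : List (List ℕ) := cert5.σ ++ [conj5_0, conj5_1]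

theorem tab5_eq : tab5 = words5.map evC := by decide +kernel

theorem tab3_eq : tab3 = words3.map evC := by decide +kernel

theorem tab2_eq_lo : tab2.take 7 = (words2.take 7).map evC := by decide +kernel

theorem tab2_eq_hi : tab2.drop 7 = (words2.drop 7).map evC := by decide +kernel

theorem tab2_eq : tab2 = words2.map evC := by
  rw [← List.take_append_drop 7 tab2, tab2_eq_lo, tab2_eq_hi, ← List.map_append, List.take_append_drop]

theorem cert5_valid : cert5.Valid (code words5 tab5 tab5_eq) 5 where
  gen := by decide +kernel
  rel := by decide +kernel
  pc := by decide +kernel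
  indep := by decide +kernel
  rows := by decide +kernel
  target := by decide +kernel

theorem cert3_valid : cert3.Valid (code words3 tab3 tab3_eq) 3 where
  gen := by decide +kernel
  rel := by decide +kernel
  pc := by decide +kernel
  indep := by decide +kernel
  rows := by decide +kernel
  target := by decide +kernel

theorem rows2_part0 : (cert2.rows.take 15).all
    (fun r => cert2.specOK (code words2 tab2 tab2_eq) r.1 && eqW r.2 (cert2.rowVec (code words2 tab2 tab2_eq) 2 r.1)) = true := by decide +kernel

theorem rows2_part1 : ((cert2.rows.drop 15).take 15).all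
    (fun r => cert2.specOK (code words2 tab2 tab2_eq) r.1 && eqW r.2 (cert2.rowVec (code words2 tab2 tab2_eq) 2 r.1)) = true := by decide +kernel

theorem rows2_part2 : (((cert2.rows.drop 15).drop 15).take 15).all
    (fun r => cert2.specOK (code words2 tab2 tab2_eq) r.1 && eqW r.2 (cert2.rowVec (code words2 tab2 tab2_eq) 2 r.1)) = true := by decide +kernel

theorem rows2_part3 : ((((cert2.rows.drop 15).drop 15).drop 15).take 15).all
    (fun r => cert2.specOK (code words2 tab2 tab2_eq) r.1 && eqW r.2 (cert2.rowVec (code words2 tab2 tab2_eq) 2 r.1)) = true := by decide +kernel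

theorem rows2_part4 : (((((cert2.rows.drop 15).drop 15).drop 15).drop 15).take 15).all
    (fun r => cert2.specOK (code words2 tab2 tab2_eq) r.1 && eqW r.2 (cert2.rowVec (code words2 tab2 tab2_eq) 2 r.1)) = true := by decide +kernel

theorem rows2_part5 : (((((cert2.rows.drop 15).drop 15).drop 15).drop 15).drop 15).all
    (fun r => cert2.specOK (code words2 tab2 tab2_eq) r.1 && eqW r.2 (cert2.rowVec (code words2 tab2 tab2_eq) 2 r.1)) = true := by decide +kernel

theorem rows2_all : cert2.rows.all
    (fun r => cert2.specOK (code words2 tab2 tab2_eq) r.1 && eqW r.2 (cert2.rowVec (code words2 tab2 tab2_eq) 2 r.1)) = true := by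
  refine List.all_eq_true.2 fun p hp => ?_
  rw [← List.take_append_drop 15 (cert2.rows), List.mem_append] at hp
  rcases hp with hp | hp
  · exact List.all_eq_true.1 rows2_part0 p hp
  rw [← List.take_append_drop 15 (cert2.rows.drop 15), List.mem_append] at hp
  rcases hp with hp | hp
  · exact List.all_eq_true.1 rows2_part1 p hp
  rw [← List.take_append_drop 15 ((cert2.rows.drop 15).drop 15), List.mem_append] at hp
  rcases hp with hp | hp
  · exact List.all_eq_true.1 rows2_part2 p hp
  rw [← List.take_append_drop 15 (((cert2.rows.drop 15).drop 15).drop 15), List.mem_append] at hp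
  rcases hp with hp | hp
  · exact List.all_eq_true.1 rows2_part3 p hp
  rw [← List.take_append_drop 15 ((((cert2.rows.drop 15).drop 15).drop 15).drop 15), List.mem_append] at hp
  rcases hp with hp | hp
  · exact List.all_eq_true.1 rows2_part4 p hp
  exact List.all_eq_true.1 rows2_part5 p hp

theorem cert2_core : cert2.Core (code words2 tab2 tab2_eq) 2 where
  gen := by decide +kernel
  rel := by decide +kernel
  pc := by decide +kernel
  rows := rows2_all
  target := by decide +kernel

theorem levels2_ok :
    Cert.levelsOK (code words2 tab2 tab2_eq) cert2 appP Nat.beq levels2 [] = true := by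
  decide +kernel

theorem levels2_prod : 2 ^ cert2.n ≤ (levels2.map fun l => l.2.length).prod := by decide +kernel

theorem negWord_check : evC negWord = negC := by decide +kernel

theorem commPair_check :
    mulC (Cert.ev (code words2 tab2 tab2_eq) cert2 commPair.1)
        (Cert.ev (code words2 tab2 tab2_eq) cert2 commPair.2) =
      mulC negC (mulC (Cert.ev (code words2 tab2 tab2_eq) cert2 commPair.2)
        (Cert.ev (code words2 tab2 tab2_eq) cert2 commPair.1)) := by decide +kernel

end CfsgLib.KnownB.G2FourMult
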