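import Cfsg.Agent.Lib.KnownB.Mult.Main

/-!
Generated tables for the double cover of the group of type G2 over four elements: six generators as
matrices of degree twelve over three elements (columns, positive and negative entries as two masks of
twelve bits) and certificates for the Sylow subgroups at 2, 3 and 5.
-/

set_option autoImplicit false
set_option maxRecDepth 100000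

namespace CfsgLib.KnownB.G2FourMult

open CfsgLib.KnownB.Mult

/-- the generators -/
def genTab : List (List ℕ) :=
  [[4462864, 534048, 2442240, 3835904, 15798276, 5384712, 2361605, 1575946, 32997, 540786, 852006,
    262299], [4528640, 665344, 12665664, 6457728, 2163973, 1181706, 9715713, 15237122, 438276,
    741378, 536664, 266286], [1048753, 2228434, 4718708, 8781848, 10526977, 13684736, 3161100,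
    9475590, 4528, 139984, 541808, 428048], [10224670, 6586535, 16416848, 5622272, 2151538,
    3295385, 2976033, 1350800, 167495, 8611713, 10629524, 13701322], [4307556, 22418, 10293292,
    14983316, 5243623, 8921465, 13144838, 7096577, 6572090, 3802135, 3709040, 1502736], [4540840,
    4327775, 2401413, 2241600, 15831078, 15941633, 2496914, 3090697, 8652049, 13713921, 13632069,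
    5908]]

/-- words for the elements at `2` -/
def words2 : List (List ℕ) :=
  [[2, 1, 3, 2, 1, 0, 3, 2, 4, 3, 5, 1, 2, 0, 1, 5, 3, 4, 2, 3, 0, 1, 2, 3, 1, 2, 2, 3, 2, 4, 3, 2,
    1, 0, 3, 5, 1, 2, 3, 4, 2, 1, 0, 1, 2, 3, 2, 1, 5, 3, 1, 2, 3, 4, 0, 1, 2, 3, 2, 4, 5, 1, 0,
    1, 2, 5, 3, 4, 2, 3, 2, 1, 0, 1, 5, 4, 2, 3, 2, 1, 0, 1, 5, 1, 0, 1, 2, 1, 3, 2, 4, 3, 2, 1,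
    5, 1, 2, 3, 4, 2, 3, 1, 2, 1, 0, 1, 5, 1, 0, 1, 2, 3, 2, 4, 5, 1, 0, 1, 2, 5, 3, 4, 2, 3, 2,
    1, 0, 1, 5, 4, 2, 3, 2, 1, 0, 1, 5, 1, 0, 1, 2, 1, 3, 2, 4, 3, 2, 1, 5, 1, 2, 3, 4, 2, 3, 1,
    2, 1, 0, 1, 5, 1, 0, 1, 2, 3, 2, 4, 5, 1, 0, 1, 2, 5, 3, 4, 2, 3, 2, 1, 0, 1, 5, 4, 2, 3, 2,
    1, 0], [1, 5, 1, 0, 1, 2, 1, 3, 2, 4, 3, 2, 1, 5, 1, 2, 3, 4, 2, 3, 1, 2, 1, 0, 1, 5, 1, 0, 1,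
    2, 3, 2, 4, 5, 1, 0, 1, 2, 5, 3, 4, 2, 3, 2, 1, 0, 1, 5, 4, 2, 3, 2, 1, 0, 0, 1, 2, 3, 2, 4,
    5, 1, 0, 1, 2, 5, 3, 4, 2, 3, 2, 1, 0, 1, 5, 4, 2, 3, 2, 1, 0, 2, 3, 2, 4, 3, 2, 1, 0, 3, 5,
    1, 2, 3, 4, 2, 1, 0, 1, 2, 3, 2, 1, 5, 3, 1, 2, 3, 4, 2, 1, 3, 2, 1, 0, 3, 2, 4, 3, 5, 1, 2,
    0, 1, 5, 3, 4, 2, 3, 0, 1, 2, 3, 1, 2, 1, 5, 1, 0, 1, 2, 1, 3, 2, 4, 3, 2, 1, 5, 1, 2, 3, 4,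
    2, 3, 1, 2, 1, 0, 1, 5, 1, 0, 1, 2, 3, 2, 4, 5, 1, 0, 1, 2, 5, 3, 4, 2, 3, 2, 1, 0, 1, 5, 4,
    2, 3, 2, 1, 0, 2, 1, 3, 2, 1, 0, 3, 2, 4, 3, 5, 1, 2, 0, 1, 5, 3, 4, 2, 3, 0, 1, 2, 3, 1, 2,
    1, 5, 1, 0, 1, 2, 1, 3, 2, 4, 3, 2, 1, 5, 1, 2, 3, 4, 2, 3, 1, 2, 1, 0, 1, 5, 1], [2, 1, 3, 2,
    1, 0, 3, 2, 4, 3, 5, 1, 2, 0, 1, 5, 3, 4, 2, 3, 0, 1, 2, 3, 1, 2, 2, 3, 2, 4, 3, 2, 1, 0, 3,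
    5, 1, 2, 3, 4, 2, 1, 0, 1, 2, 3, 2, 1, 5, 3, 1, 2, 3, 4, 2, 1, 3, 2, 1, 0, 3, 2, 4, 3, 5, 1,
    2, 0, 1, 5, 3, 4, 2, 3, 0, 1, 2, 3, 1, 2, 0, 1, 2, 3, 2, 4, 5, 1, 0, 1, 2, 5, 3, 4, 2, 3, 2,
    1, 0, 1, 5, 4, 2, 3, 2, 1, 0, 1, 5, 1, 0, 1, 2, 1, 3, 2, 4, 3, 2, 1, 5, 1, 2, 3, 4, 2, 3, 1,
    2, 1, 0, 1, 5, 1, 2, 3, 2, 4, 3, 2, 1, 0, 3, 5, 1, 2, 3, 4, 2, 1, 0, 1, 2, 3, 2, 1, 5, 3, 1,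
    2, 3, 4, 1, 5, 1, 0, 1, 2, 1, 3, 2, 4, 3, 2, 1, 5, 1, 2, 3, 4, 2, 3, 1, 2, 1, 0, 1, 5, 1, 0,
    1, 2, 3, 2, 4, 5, 1, 0, 1, 2, 5, 3, 4, 2, 3, 2, 1, 0, 1, 5, 4, 2, 3, 2, 1, 0, 1, 5, 1, 0, 1,
    2, 1, 3, 2, 4, 3, 2, 1, 5, 1, 2, 3, 4, 2, 3, 1, 2, 1, 0, 1, 5, 1], [1, 5, 1, 0, 1, 2, 1, 3, 2,
    4, 3, 2, 1, 5, 1, 2, 3, 4, 2, 3, 1, 2, 1, 0, 1, 5, 1, 0, 1, 2, 3, 2, 4, 5, 1, 0, 1, 2, 5, 3,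
    4, 2, 3, 2, 1, 0, 1, 5, 4, 2, 3, 2, 1, 0, 2, 3, 2, 4, 3, 2, 1, 0, 3, 5, 1, 2, 3, 4, 2, 1, 0,
    1, 2, 3, 2, 1, 5, 3, 1, 2, 3, 4, 2, 1, 3, 2, 1, 0, 3, 2, 4, 3, 5, 1, 2, 0, 1, 5, 3, 4, 2, 3,
    0, 1, 2, 3, 1, 2, 0, 1, 2, 3, 2, 4, 5, 1, 0, 1, 2, 5, 3, 4, 2, 3, 2, 1, 0, 1, 5, 4, 2, 3, 2,
    1, 0, 2, 1, 3, 2, 1, 0, 3, 2, 4, 3, 5, 1, 2, 0, 1, 5, 3, 4, 2, 3, 0, 1, 2, 3, 1, 2, 1, 5, 1,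
    0, 1, 2, 1, 3, 2, 4, 3, 2, 1, 5, 1, 2, 3, 4, 2, 3, 1, 2, 1, 0, 1, 5, 1, 0, 1, 2, 3, 2, 4, 5,
    1, 0, 1, 2, 5, 3, 4, 2, 3, 2, 1, 0, 1, 5, 4, 2, 3, 2, 1, 0, 2, 3, 2, 4, 3, 2, 1, 0, 3, 5, 1,
    2, 3, 4, 2, 1, 0, 1, 2, 3, 2, 1, 5, 3, 1, 2, 3, 4], [2, 1, 3, 2, 1, 0, 3, 2, 4, 3, 5, 1, 2, 0,
    1, 5, 3, 4, 2, 3, 0, 1, 2, 3, 1, 2, 2, 3, 2, 4, 3, 2, 1, 0, 3, 5, 1, 2, 3, 4, 2, 1, 0, 1, 2,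
    3, 2, 1, 5, 3, 1, 2, 3, 4, 1, 5, 1, 0, 1, 2, 1, 3, 2, 4, 3, 2, 1, 5, 1, 2, 3, 4, 2, 3, 1, 2,
    1, 0, 1, 5, 1, 0, 1, 2, 3, 2, 4, 5, 1, 0, 1, 2, 5, 3, 4, 2, 3, 2, 1, 0, 1, 5, 4, 2, 3, 2, 1,
    0, 2, 1, 3, 2, 1, 0, 3, 2, 4, 3, 5, 1, 2, 0, 1, 5, 3, 4, 2, 3, 0, 1, 2, 3, 1, 2, 1, 5, 1, 0,
    1, 2, 1, 3, 2, 4, 3, 2, 1, 5, 1, 2, 3, 4, 2, 3, 1, 2, 1, 0, 1, 5, 1, 2, 3, 2, 4, 3, 2, 1, 0,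
    3, 5, 1, 2, 3, 4, 2, 1, 0, 1, 2, 3, 2, 1, 5, 3, 1, 2, 3, 4, 1, 5, 1, 0, 1, 2, 1, 3, 2, 4, 3,
    2, 1, 5, 1, 2, 3, 4, 2, 3, 1, 2, 1, 0, 1, 5, 1, 0, 1, 2, 3, 2, 4, 5, 1, 0, 1, 2, 5, 3, 4, 2,
    3, 2, 1, 0, 1, 5, 4, 2, 3, 2, 1, 0, 1, 5, 1, 0, 1, 2, 1, 3, 2, 4, 3, 2, 1, 5, 1, 2, 3, 4, 2,
    3, 1, 2, 1, 0, 1, 5, 1], [1, 5, 1, 0, 1, 2, 1, 3, 2, 4, 3, 2, 1, 5, 1, 2, 3, 4, 2, 3, 1, 2, 1,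
    0, 1, 5, 1, 2, 3, 2, 4, 3, 2, 1, 0, 3, 5, 1, 2, 3, 4, 2, 1, 0, 1, 2, 3, 2, 1, 5, 3, 1, 2, 3,
    4, 2, 1, 3, 2, 1, 0, 3, 2, 4, 3, 5, 1, 2, 0, 1, 5, 3, 4, 2, 3, 0, 1, 2, 3, 1, 2, 0, 1, 2, 3,
    2, 4, 5, 1, 0, 1, 2, 5, 3, 4, 2, 3, 2, 1, 0, 1, 5, 4, 2, 3, 2, 1, 0, 1, 5, 1, 0, 1, 2, 1, 3,
    2, 4, 3, 2, 1, 5, 1, 2, 3, 4, 2, 3, 1, 2, 1, 0, 1, 5, 1, 2, 3, 2, 4, 3, 2, 1, 0, 3, 5, 1, 2,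
    3, 4, 2, 1, 0, 1, 2, 3, 2, 1, 5, 3, 1, 2, 3, 4, 2, 1, 3, 2, 1, 0, 3, 2, 4, 3, 5, 1, 2, 0, 1,
    5, 3, 4, 2, 3, 0, 1, 2, 3, 1, 2, 0, 1, 2, 3, 2, 4, 5, 1, 0, 1, 2, 5, 3, 4, 2, 3, 2, 1, 0, 1,
    5, 4, 2, 3, 2, 1, 0], [2, 1, 3, 2, 1, 0, 3, 2, 4, 3, 5, 1, 2, 0, 1, 5, 3, 4, 2, 3, 0, 1, 2, 3,
    1, 2, 1, 5, 1, 0, 1, 2, 1, 3, 2, 4, 3, 2, 1, 5, 1, 2, 3, 4, 2, 3, 1, 2, 1, 0, 1, 5, 1, 0, 1,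
    2, 3, 2, 4, 5, 1, 0, 1, 2, 5, 3, 4, 2, 3, 2, 1, 0, 1, 5, 4, 2, 3, 2, 1, 0, 2, 1, 3, 2, 1, 0,
    3, 2, 4, 3, 5, 1, 2, 0, 1, 5, 3, 4, 2, 3, 0, 1, 2, 3, 1, 2, 1, 5, 1, 0, 1, 2, 1, 3, 2, 4, 3,
    2, 1, 5, 1, 2, 3, 4, 2, 3, 1, 2, 1, 0, 1, 5, 1, 2, 3, 2, 4, 3, 2, 1, 0, 3, 5, 1, 2, 3, 4, 2,
    1, 0, 1, 2, 3, 2, 1, 5, 3, 1, 2, 3, 4, 1, 5, 1, 0, 1, 2, 1, 3, 2, 4, 3, 2, 1, 5, 1, 2, 3, 4,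
    2, 3, 1, 2, 1, 0, 1, 5, 1, 0, 1, 2, 3, 2, 4, 5, 1, 0, 1, 2, 5, 3, 4, 2, 3, 2, 1, 0, 1, 5, 4,
    2, 3, 2, 1, 0, 1, 5, 1, 0, 1, 2, 1, 3, 2, 4, 3, 2, 1, 5, 1, 2, 3, 4, 2, 3, 1, 2, 1, 0, 1, 5,
    1, 2, 3, 2, 4, 3, 2, 1, 0, 3, 5, 1, 2, 3, 4, 2, 1, 0, 1, 2, 3, 2, 1, 5, 3, 1, 2, 3, 4], [2, 1,
    3, 2, 1, 0, 3, 2, 4, 3, 5, 1, 2, 0, 1, 5, 3, 4, 2, 3, 0, 1, 2, 3, 1, 2, 1, 5, 1, 0, 1, 2, 1,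
    3, 2, 4, 3, 2, 1, 5, 1, 2, 3, 4, 2, 3, 1, 2, 1, 0, 1, 5, 1, 0, 1, 2, 3, 2, 4, 5, 1, 0, 1, 2,
    5, 3, 4, 2, 3, 2, 1, 0, 1, 5, 4, 2, 3, 2, 1, 0, 2, 1, 3, 2, 1, 0, 3, 2, 4, 3, 5, 1, 2, 0, 1,
    5, 3, 4, 2, 3, 0, 1, 2, 3, 1, 2, 1, 5, 1, 0, 1, 2, 1, 3, 2, 4, 3, 2, 1, 5, 1, 2, 3, 4, 2, 3,
    1, 2, 1, 0, 1, 5, 1, 2, 3, 2, 4, 3, 2, 1, 0, 3, 5, 1, 2, 3, 4, 2, 1, 0, 1, 2, 3, 2, 1, 5, 3,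
    1, 2, 3, 4, 2, 1, 3, 2, 1, 0, 3, 2, 4, 3, 5, 1, 2, 0, 1, 5, 3, 4, 2, 3, 0, 1, 2, 3, 1, 2, 0,
    1, 2, 3, 2, 4, 5, 1, 0, 1, 2, 5, 3, 4, 2, 3, 2, 1, 0, 1, 5, 4, 2, 3, 2, 1, 0, 2, 1, 3, 2, 1,
    0, 3, 2, 4, 3, 5, 1, 2, 0, 1, 5, 3, 4, 2, 3, 0, 1, 2, 3, 1, 2, 2, 3, 2, 4, 3, 2, 1, 0, 3, 5,
    1, 2, 3, 4, 2, 1, 0, 1, 2, 3, 2, 1, 5, 3, 1, 2, 3, 4], [2, 1, 3, 2, 1, 0, 3, 2, 4, 3, 5, 1, 2,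
    0, 1, 5, 3, 4, 2, 3, 0, 1, 2, 3, 1, 2, 1, 5, 1, 0, 1, 2, 1, 3, 2, 4, 3, 2, 1, 5, 1, 2, 3, 4,
    2, 3, 1, 2, 1, 0, 1, 5, 1, 0, 1, 2, 3, 2, 4, 5, 1, 0, 1, 2, 5, 3, 4, 2, 3, 2, 1, 0, 1, 5, 4,
    2, 3, 2, 1, 0, 2, 1, 3, 2, 1, 0, 3, 2, 4, 3, 5, 1, 2, 0, 1, 5, 3, 4, 2, 3, 0, 1, 2, 3, 1, 2,
    0, 1, 2, 3, 2, 4, 5, 1, 0, 1, 2, 5, 3, 4, 2, 3, 2, 1, 0, 1, 5, 4, 2, 3, 2, 1, 0, 1, 5, 1, 0,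
    1, 2, 1, 3, 2, 4, 3, 2, 1, 5, 1, 2, 3, 4, 2, 3, 1, 2, 1, 0, 1, 5, 1, 2, 3, 2, 4, 3, 2, 1, 0,
    3, 5, 1, 2, 3, 4, 2, 1, 0, 1, 2, 3, 2, 1, 5, 3, 1, 2, 3, 4, 2, 1, 3, 2, 1, 0, 3, 2, 4, 3, 5,
    1, 2, 0, 1, 5, 3, 4, 2, 3, 0, 1, 2, 3, 1, 2, 0, 1, 2, 3, 2, 4, 5, 1, 0, 1, 2, 5, 3, 4, 2, 3,
    2, 1, 0, 1, 5, 4, 2, 3, 2, 1, 0, 2, 1, 3, 2, 1, 0, 3, 2, 4, 3, 5, 1, 2, 0, 1, 5, 3, 4, 2, 3,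
    0, 1, 2, 3, 1, 2, 2, 3, 2, 4, 3, 2, 1, 0, 3, 5, 1, 2, 3, 4, 2, 1, 0, 1, 2, 3, 2, 1, 5, 3, 1,
    2, 3, 4, 0, 1, 2, 3, 2, 4, 5, 1, 0, 1, 2, 5, 3, 4, 2, 3, 2, 1, 0, 1, 5, 4, 2, 3, 2, 1, 0], [2,
    1, 3, 2, 1, 0, 3, 2, 4, 3, 5, 1, 2, 0, 1, 5, 3, 4, 2, 3, 0, 1, 2, 3, 1, 2, 1, 5, 1, 0, 1, 2,
    1, 3, 2, 4, 3, 2, 1, 5, 1, 2, 3, 4, 2, 3, 1, 2, 1, 0, 1, 5, 1, 0, 1, 2, 3, 2, 4, 5, 1, 0, 1,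
    2, 5, 3, 4, 2, 3, 2, 1, 0, 1, 5, 4, 2, 3, 2, 1, 0, 2, 1, 3, 2, 1, 0, 3, 2, 4, 3, 5, 1, 2, 0,
    1, 5, 3, 4, 2, 3, 0, 1, 2, 3, 1, 2, 1, 5, 1, 0, 1, 2, 1, 3, 2, 4, 3, 2, 1, 5, 1, 2, 3, 4, 2,
    3, 1, 2, 1, 0, 1, 5, 1, 0, 1, 2, 3, 2, 4, 5, 1, 0, 1, 2, 5, 3, 4, 2, 3, 2, 1, 0, 1, 5, 4, 2,
    3, 2, 1, 0, 2, 3, 2, 4, 3, 2, 1, 0, 3, 5, 1, 2, 3, 4, 2, 1, 0, 1, 2, 3, 2, 1, 5, 3, 1, 2, 3,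
    4, 2, 1, 3, 2, 1, 0, 3, 2, 4, 3, 5, 1, 2, 0, 1, 5, 3, 4, 2, 3, 0, 1, 2, 3, 1, 2, 1, 5, 1, 0,
    1, 2, 1, 3, 2, 4, 3, 2, 1, 5, 1, 2, 3, 4, 2, 3, 1, 2, 1, 0, 1, 5, 1, 0, 1, 2, 3, 2, 4, 5, 1,
    0, 1, 2, 5, 3, 4, 2, 3, 2, 1, 0, 1, 5, 4, 2, 3, 2, 1, 0, 2, 1, 3, 2, 1, 0, 3, 2, 4, 3, 5, 1,
    2, 0, 1, 5, 3, 4, 2, 3, 0, 1, 2, 3, 1, 2, 1, 5, 1, 0, 1, 2, 1, 3, 2, 4, 3, 2, 1, 5, 1, 2, 3,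
    4, 2, 3, 1, 2, 1, 0, 1, 5, 1, 2, 3, 2, 4, 3, 2, 1, 0, 3, 5, 1, 2, 3, 4, 2, 1, 0, 1, 2, 3, 2,
    1, 5, 3, 1, 2, 3, 4, 0, 1, 2, 3, 2, 4, 5, 1, 0, 1, 2, 5, 3, 4, 2, 3, 2, 1, 0, 1, 5, 4, 2, 3,
    2, 1, 0], [2, 1, 3, 2, 1, 0, 3, 2, 4, 3, 5, 1, 2, 0, 1, 5, 3, 4, 2, 3, 0, 1, 2, 3, 1, 2, 0, 1,
    2, 3, 2, 4, 5, 1, 0, 1, 2, 5, 3, 4, 2, 3, 2, 1, 0, 1, 5, 4, 2, 3, 2, 1, 0, 2, 1, 3, 2, 1, 0,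
    3, 2, 4, 3, 5, 1, 2, 0, 1, 5, 3, 4, 2, 3, 0, 1, 2, 3, 1, 2, 0, 1, 2, 3, 2, 4, 5, 1, 0, 1, 2,
    5, 3, 4, 2, 3, 2, 1, 0, 1, 5, 4, 2, 3, 2, 1, 0, 2, 1, 3, 2, 1, 0, 3, 2, 4, 3, 5, 1, 2, 0, 1,
    5, 3, 4, 2, 3, 0, 1, 2, 3, 1, 2, 0, 1, 2, 3, 2, 4, 5, 1, 0, 1, 2, 5, 3, 4, 2, 3, 2, 1, 0, 1,
    5, 4, 2, 3, 2, 1, 0, 2, 1, 3, 2, 1, 0, 3, 2, 4, 3, 5, 1, 2, 0, 1, 5, 3, 4, 2, 3, 0, 1, 2, 3,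
    1, 2, 0, 1, 2, 3, 2, 4, 5, 1, 0, 1, 2, 5, 3, 4, 2, 3, 2, 1, 0, 1, 5, 4, 2, 3, 2, 1, 0], [2, 1,
    3, 2, 1, 0, 3, 2, 4, 3, 5, 1, 2, 0, 1, 5, 3, 4, 2, 3, 0, 1, 2, 3, 1, 2, 0, 1, 2, 3, 2, 4, 5,
    1, 0, 1, 2, 5, 3, 4, 2, 3, 2, 1, 0, 1, 5, 4, 2, 3, 2, 1, 0, 1, 5, 1, 0, 1, 2, 1, 3, 2, 4, 3,
    2, 1, 5, 1, 2, 3, 4, 2, 3, 1, 2, 1, 0, 1, 5, 1, 0, 1, 2, 3, 2, 4, 5, 1, 0, 1, 2, 5, 3, 4, 2,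
    3, 2, 1, 0, 1, 5, 4, 2, 3, 2, 1, 0, 2, 1, 3, 2, 1, 0, 3, 2, 4, 3, 5, 1, 2, 0, 1, 5, 3, 4, 2,
    3, 0, 1, 2, 3, 1, 2, 0, 1, 2, 3, 2, 4, 5, 1, 0, 1, 2, 5, 3, 4, 2, 3, 2, 1, 0, 1, 5, 4, 2, 3,
    2, 1, 0, 1, 5, 1, 0, 1, 2, 1, 3, 2, 4, 3, 2, 1, 5, 1, 2, 3, 4, 2, 3, 1, 2, 1, 0, 1, 5, 1, 0,
    1, 2, 3, 2, 4, 5, 1, 0, 1, 2, 5, 3, 4, 2, 3, 2, 1, 0, 1, 5, 4, 2, 3, 2, 1, 0], [2, 1, 3, 2, 1,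
    0, 3, 2, 4, 3, 5, 1, 2, 0, 1, 5, 3, 4, 2, 3, 0, 1, 2, 3, 1, 2, 1, 5, 1, 0, 1, 2, 1, 3, 2, 4,
    3, 2, 1, 5, 1, 2, 3, 4, 2, 3, 1, 2, 1, 0, 1, 5, 1, 0, 1, 2, 3, 2, 4, 5, 1, 0, 1, 2, 5, 3, 4,
    2, 3, 2, 1, 0, 1, 5, 4, 2, 3, 2, 1, 0, 1, 5, 1, 0, 1, 2, 1, 3, 2, 4, 3, 2, 1, 5, 1, 2, 3, 4,
    2, 3, 1, 2, 1, 0, 1, 5, 1, 0, 1, 2, 3, 2, 4, 5, 1, 0, 1, 2, 5, 3, 4, 2, 3, 2, 1, 0, 1, 5, 4,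
    2, 3, 2, 1, 0, 2, 1, 3, 2, 1, 0, 3, 2, 4, 3, 5, 1, 2, 0, 1, 5, 3, 4, 2, 3, 0, 1, 2, 3, 1, 2,
    1, 5, 1, 0, 1, 2, 1, 3, 2, 4, 3, 2, 1, 5, 1, 2, 3, 4, 2, 3, 1, 2, 1, 0, 1, 5, 1, 0, 1, 2, 3,
    2, 4, 5, 1, 0, 1, 2, 5, 3, 4, 2, 3, 2, 1, 0, 1, 5, 4, 2, 3, 2, 1, 0, 1, 5, 1, 0, 1, 2, 1, 3,
    2, 4, 3, 2, 1, 5, 1, 2, 3, 4, 2, 3, 1, 2, 1, 0, 1, 5, 1, 0, 1, 2, 3, 2, 4, 5, 1, 0, 1, 2, 5,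
    3, 4, 2, 3, 2, 1, 0, 1, 5, 4, 2, 3, 2, 1, 0], [2, 3, 2, 4, 3, 2, 1, 0, 3, 5, 1, 2, 3, 4, 2, 1,
    0, 1, 2, 3, 2, 1, 5, 3, 1, 2, 3, 4, 2, 4, 3, 2, 3, 5, 1, 2, 3, 2, 4, 3, 2, 1, 0, 1, 2, 3, 4,
    2, 3, 2, 0, 1, 5, 2, 3, 2, 3, 2, 4, 3, 2, 1, 0, 3, 5, 1, 2, 3, 4, 2, 1, 0, 1, 2, 3, 2, 1, 5,
    3, 1, 2, 3, 4], [1, 5, 1, 0, 1, 2, 1, 3, 2, 4, 3, 2, 1, 5, 1, 2, 3, 4, 2, 3, 1, 2, 1, 0, 1, 5,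
    1, 1, 2, 3, 4, 5, 1, 2, 3, 2, 1, 3, 4, 3, 2, 1, 0, 1, 2, 3, 2, 1, 5, 3, 4, 1, 2, 3, 2, 1, 5,
    1, 0, 1, 2, 1, 3, 2, 4, 3, 2, 1, 5, 1, 2, 3, 4, 2, 3, 1, 2, 1, 0, 1, 5, 1]]

/-- a conjugator at `2` -/
def conj2_0 : List ℕ :=
  [10883216, 11281712, 147984, 1081904, 33076, 3211308, 1086662, 12858252, 1098256, 229632, 4196447,
    984074]

/-- a conjugator at `2` -/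
def conj2_1 : List ℕ :=
  [1314826, 40961, 5513232, 1343489, 4261933, 2624893, 10892688, 3226816, 5847648, 997120, 4315168,
    1367728]

/-- the certificate at `2` -/
def cert2 : Cert (List ℕ) where
  n := 13
  σ := [[3837958, 4281224, 1543681, 71712, 1772041, 11109700, 49747, 14234212, 4246129, 4325663, 1712648,
    121730], [6150658, 10552448, 6490122, 1169570, 796932, 11289642, 5259929, 4409859, 1591865,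
    4338248, 84642, 8548488], [2972938, 117186, 956180, 13074947, 141896, 5247074, 8525190,
    724487, 8491680, 493063, 4759572, 1058409], [2105537, 3586192, 1333304, 189057, 1437313,
    4266030, 2215042, 2219264, 14032900, 1346197, 3145857, 10785968], [6678689, 13177088,
    14860434, 9131336, 9437746, 4334353, 9274113, 2522248, 15212605, 8693140, 8496805, 1121292],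
    [4901123, 2452649, 1387653, 9703480, 10633545, 788254, 1202330, 6635523, 1685604, 6819860,
    1448476, 7479492], [2005010, 6750214, 1059524, 7418020, 2414754, 5280368, 14250496, 3025164,
    8471400, 1119814, 2637866, 581952], [5673476, 4524678, 10953737, 937986, 11997, 11075840,
    808744, 9577037, 8951570, 3408001, 2333060, 7655458], [2769243, 6560140, 8807569, 6601092,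
    6553776, 2162921, 12583872, 8663692, 10224672, 13475876, 1314336, 89954], [8458242, 12713985,
    346632, 659204, 4331520, 205824, 6834433, 1868802, 1638506, 2359327, 4268064, 8400912],
    [5130248, 4065295, 10921349, 6699136, 4669568, 449, 4997377, 1053700, 9339908, 13541888,
    5659274, 8783746], [5265416, 264253, 10526977, 10530992, 10900874, 9463529, 6854918, 128,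
    9475076, 12812353, 1056270, 724750], [8422628, 8451040, 5790314, 8914531, 525428, 1839104,
    1053892, 4210945, 4212968, 2100458, 11052389, 7874656]]
  rules := [([0, 0], [4]), ([1, 1], [4, 5, 10]), ([2, 2], [10, 12]), ([3, 3], [8, 9, 10, 11]), ([4, 4],
    [10]), ([5, 5], [10, 11, 12]), ([6, 6], [10]), ([7, 7], [11, 12]), ([8, 8], []), ([9, 9], []),
    ([10, 10], []), ([11, 11], []), ([12, 12], []), ([1, 0], [0, 1, 5, 10, 11, 12]), ([2, 0], [0,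
    2, 4, 5, 10]), ([3, 0], [0, 3, 6, 10]), ([4, 0], [0, 4]), ([5, 0], [0, 5, 10]), ([6, 0], [0,
    6, 8, 10]), ([7, 0], [0, 7, 8, 9, 10]), ([8, 0], [0, 8, 10]), ([9, 0], [0, 9, 10, 11]), ([10,
    0], [0, 10]), ([11, 0], [0, 11]), ([12, 0], [0, 12]), ([2, 1], [1, 2, 4, 5, 10]), ([3, 1], [1,
    3, 7, 11, 12]), ([4, 1], [1, 4, 11, 12]), ([5, 1], [1, 5, 11, 12]), ([6, 1], [1, 6, 8, 11,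
    12]), ([7, 1], [1, 7, 8, 9, 11, 12]), ([8, 1], [1, 8, 11]), ([9, 1], [1, 9, 12]), ([10, 1],
    [1, 10]), ([11, 1], [1, 11]), ([12, 1], [1, 12]), ([3, 2], [2, 3, 7, 8, 9, 10, 11]), ([4, 2],
    [2, 4, 10, 11, 12]), ([5, 2], [2, 5, 10]), ([6, 2], [2, 6, 10, 11, 12]), ([7, 2], [2, 7]),
    ([8, 2], [2, 8, 11]), ([9, 2], [2, 9, 12]), ([10, 2], [2, 10]), ([11, 2], [2, 11]), ([12, 2],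
    [2, 12]), ([4, 3], [3, 4, 8]), ([5, 3], [3, 5, 9]), ([6, 3], [3, 6, 10, 11]), ([7, 3], [3,
    7]), ([8, 3], [3, 8]), ([9, 3], [3, 9]), ([10, 3], [3, 10]), ([11, 3], [3, 11]), ([12, 3], [3,
    12]), ([5, 4], [4, 5]), ([6, 4], [4, 6, 10]), ([7, 4], [4, 7, 11]), ([8, 4], [4, 8]), ([9, 4],
    [4, 9]), ([10, 4], [4, 10]), ([11, 4], [4, 11]), ([12, 4], [4, 12]), ([6, 5], [5, 6, 10, 11]),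
    ([7, 5], [5, 7, 12]), ([8, 5], [5, 8]), ([9, 5], [5, 9]), ([10, 5], [5, 10]), ([11, 5], [5,
    11]), ([12, 5], [5, 12]), ([7, 6], [6, 7]), ([8, 6], [6, 8]), ([9, 6], [6, 9]), ([10, 6], [6,
    10]), ([11, 6], [6, 11]), ([12, 6], [6, 12]), ([8, 7], [7, 8]), ([9, 7], [7, 9]), ([10, 7],
    [7, 10]), ([11, 7], [7, 11]), ([12, 7], [7, 12]), ([9, 8], [8, 9]), ([10, 8], [8, 10]), ([11,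
    8], [8, 11]), ([12, 8], [8, 12]), ([10, 9], [9, 10]), ([11, 9], [9, 11]), ([12, 9], [9, 12]),
    ([11, 10], [10, 11]), ([12, 10], [10, 12]), ([12, 11], [11, 12])]
  conjs := [(conj2_0, [7], [1, 2, 6, 8, 9, 10, 11]), (conj2_0, [6], [1, 2, 3, 4, 6, 7, 8, 11, 12]), (conj2_0,
    [5], [1, 2, 5, 6, 7, 8, 10, 11]), (conj2_0, [4], [3, 6, 10]), (conj2_0, [3], [1, 2, 3, 6, 7,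
    11, 12]), (conj2_0, [1, 2], [1, 2, 3, 4, 6, 8, 9, 10]), (conj2_0, [11, 12], [8, 10, 11, 12]),
    (conj2_0, [12], [8, 9, 12]), (conj2_0, [8, 9], [8, 9]), (conj2_0, [10], [8, 9, 10]), (conj2_0,
    [8, 10, 11], [8, 9, 11]), (conj2_1, [9], [0, 1, 4, 6, 8, 9, 10]), (conj2_1, [8], [0, 1, 2, 7,
    8, 9, 11, 12]), (conj2_1, [7], [0, 1, 2, 4, 5, 8, 9, 10, 11]), (conj2_1, [6], [2, 7, 8, 11]),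
    (conj2_1, [5], [2, 4, 5, 6, 7, 8, 9]), (conj2_1, [4], [0, 1, 6, 8]), (conj2_1, [2], [4, 5, 6,
    7, 10, 11]), (conj2_1, [0, 1], [0, 1, 4, 9, 11, 12]), (conj2_1, [12], [12]), (conj2_1, [10,
    11, 12], [10, 11, 12]), (conj2_1, [11], [11])]
  rows := [(.ovl [0] 0 [], [0, 0, 0, 0, 0, 0, 0, 0, 0, 0, 0, 0, 0, 0, 0, 0, 1]), (.ovl [1] 13 [], [0, 0, 0,
    0, 0, 1, 0, 0, 0, 0, 1, 0, 0, 0, 0, 0, 1, 1, 0, 0, 0, 0, 1, 0, 0, 0, 0, 0, 1, 0, 0, 0, 0, 1,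
    1, 1, 0, 0, 0, 0, 0, 0, 0, 0, 0, 0, 0, 0, 0, 0, 0, 0, 0, 0, 0, 0, 0, 0, 0, 0, 0, 0, 0, 0, 0,
    0, 0, 0, 1, 1, 0, 0, 0, 0, 0, 0, 0, 0, 0, 0, 0, 0, 0, 0, 0, 0, 0, 0, 0, 0, 0]), (.ovl [1] 0
    [], [0, 0, 0, 0, 0, 1, 0, 0, 0, 0, 0, 0, 0, 0, 0, 0, 0, 1, 0, 0, 0, 0, 1, 1, 1, 0, 0, 1, 0, 0,
    0, 0, 0, 0, 0, 0, 0, 0, 0, 0, 0, 0, 0, 0, 0, 0, 0, 0, 0, 0, 0, 0, 0, 0, 0, 0, 0, 0, 0, 0, 0,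
    0, 0, 0, 0, 0, 0, 1, 1, 1, 0, 0, 0, 0, 0, 0, 0, 0, 0, 0, 0, 0, 0, 0, 0, 0, 0, 0, 0, 0, 0]),
    (.ovl [2] 13 [], [0, 0, 0, 0, 0, 0, 0, 0, 0, 0, 1, 1, 1, 0, 0, 0, 1, 1, 0, 0, 0, 0, 1, 0, 0,
    0, 0, 1, 1, 0, 0, 0, 0, 1, 0, 0, 0, 0, 1, 0, 0, 0, 0, 1, 1, 1, 0, 0, 0, 0, 0, 0, 0, 0, 0, 0,
    0, 0, 0, 0, 1, 1, 1, 0, 0, 0, 0, 0, 1, 1, 0, 0, 0, 0, 0, 0, 0, 0, 0, 0, 0, 0, 0, 0, 0, 0, 0,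
    0, 0, 0, 1]), (.ovl [3] 13 [], [0, 0, 0, 0, 0, 0, 0, 0, 0, 1, 0, 1, 1, 0, 0, 0, 0, 0, 0, 1, 0,
    0, 0, 1, 1, 0, 0, 0, 0, 1, 0, 0, 0, 1, 0, 0, 0, 0, 0, 0, 0, 0, 0, 0, 0, 0, 0, 1, 0, 0, 0, 0,
    1, 1, 1, 0, 0, 0, 0, 0, 0, 0, 0, 1, 1, 1, 0, 1, 0, 0, 1, 0, 1, 1, 0, 0, 0, 1, 1, 0, 1, 1, 1,
    1, 1, 0, 1, 1, 0, 0, 1]), (.ovl [4] 13 [], [0, 0, 0, 0, 0, 0, 0, 0, 0, 0, 0, 0, 0, 0, 0, 0, 0,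
    0, 0, 0, 0, 0, 0, 1, 1, 0, 0, 0, 0, 0, 0, 0, 0, 0, 0, 0, 0, 0, 0, 0, 0, 0, 0, 0, 0, 0, 0, 0,
    0, 0, 0, 0, 0, 0, 0, 1, 0, 0, 0, 0, 1, 1, 1, 0, 0, 0, 0, 0, 1, 1, 0, 0, 0, 0, 0, 0, 0, 0, 0,
    0, 0, 0, 0, 0, 0, 0, 0, 0, 1, 1, 0]), (.ovl [5] 13 [], [0, 0, 0, 0, 0, 0, 0, 0, 0, 0, 0, 0, 0,
    0, 0, 0, 0, 0, 0, 0, 0, 0, 0, 1, 1, 0, 0, 0, 0, 0, 0, 0, 0, 1, 0, 0, 0, 0, 0, 0, 0, 0, 0, 0,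
    0, 0, 0, 0, 0, 0, 0, 0, 0, 0, 0, 0, 0, 0, 0, 0, 0, 0, 0, 0, 0, 0, 0, 0, 0, 0, 0, 0, 0, 0, 0,
    0, 0, 0, 0, 0, 0, 0, 0, 0, 0, 0, 0, 0, 1, 1, 0]), (.ovl [6] 13 [], [0, 0, 0, 0, 0, 0, 0, 0, 0,
    0, 0, 1, 0, 0, 0, 0, 0, 0, 0, 0, 1, 0, 0, 1, 1, 0, 0, 0, 0, 0, 0, 1, 0, 1, 0, 0, 0, 0, 0, 0,
    0, 0, 0, 0, 0, 0, 0, 0, 0, 0, 0, 0, 0, 0, 0, 0, 0, 0, 0, 0, 0, 0, 0, 1, 0, 0, 0, 1, 0, 1, 0,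
    0, 0, 1, 1, 1, 0, 0, 0, 0, 0, 0, 1, 1, 1, 0, 0, 0, 0, 0, 1]), (.ovl [7] 13 [], [0, 0, 0, 0, 0,
    0, 0, 0, 0, 0, 1, 0, 1, 0, 0, 0, 0, 0, 0, 0, 1, 1, 0, 1, 1, 0, 0, 0, 0, 0, 0, 1, 1, 1, 0, 0,
    0, 0, 0, 0, 0, 0, 0, 0, 0, 0, 0, 0, 0, 0, 0, 0, 0, 0, 0, 0, 0, 0, 0, 0, 0, 0, 0, 0, 1, 0, 0,
    1, 0, 0, 0, 0, 0, 0, 0, 0, 0, 0, 1, 1, 1, 0, 1, 1, 1, 0, 0, 1, 1, 1, 0]), (.ovl [8] 13 [], [0,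
    0, 0, 0, 0, 0, 0, 0, 0, 0, 0, 0, 0, 0, 0, 0, 0, 0, 0, 0, 0, 0, 0, 1, 0, 0, 0, 0, 0, 0, 0, 0,
    0, 1, 0, 0, 0, 0, 0, 0, 0, 0, 0, 0, 0, 0, 0, 0, 0, 0, 0, 0, 0, 0, 0, 0, 0, 0, 0, 0, 0, 0, 0,
    0, 0, 1, 0, 1, 1, 0, 0, 0, 0, 0, 0, 0, 0, 0, 0, 0, 0, 0, 1, 1, 1, 0, 0, 0, 1, 1, 1]), (.ovl
    [9] 13 [], [0, 0, 0, 0, 0, 0, 0, 0, 0, 0, 0, 0, 0, 0, 0, 0, 0, 0, 0, 0, 0, 0, 0, 0, 1, 0, 0,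
    0, 0, 0, 0, 0, 0, 1, 1, 0, 0, 0, 0, 0, 0, 0, 0, 0, 0, 0, 0, 0, 0, 0, 0, 0, 0, 0, 0, 0, 0, 0,
    0, 0, 0, 0, 0, 0, 0, 0, 1, 1, 1, 1, 0, 0, 0, 0, 0, 0, 0, 0, 0, 0, 0, 0, 0, 0, 0, 1, 1, 1, 0,
    1, 1]), (.ovl [10] 13 [], [0, 0, 0, 0, 0, 0, 0, 0, 0, 0, 0, 0, 0, 0, 0, 0, 0, 0, 0, 0, 0, 0,
    0, 0, 0, 0, 0, 0, 0, 0, 0, 0, 0, 0, 0, 0, 0, 0, 0, 0, 0, 0, 0, 0, 0, 0, 0, 0, 0, 0, 0, 0, 0,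
    0, 0, 0, 0, 0, 0, 0, 0, 0, 0, 0, 0, 0, 0, 1, 0, 0, 0, 0, 0, 0, 0, 0, 0, 0, 0, 0, 0, 0, 0, 0,
    0, 0, 0, 0, 1, 1]), (.ovl [11] 13 [], [0, 0, 0, 0, 0, 0, 0, 0, 0, 0, 0, 0, 0, 0, 0, 0, 0, 0,
    0, 0, 0, 0, 0, 0, 0, 0, 0, 0, 0, 0, 0, 0, 0, 0, 0, 0, 0, 0, 0, 0, 0, 0, 0, 0, 0, 0, 0, 0, 0,
    0, 0, 0, 0, 0, 0, 0, 0, 0, 0, 0, 0, 0, 0, 0, 0, 0, 0, 0, 1, 0, 0, 0, 0, 0, 0, 0, 0, 0, 0, 0,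
    0, 0, 0, 0, 0, 0, 0, 0, 1, 0, 1]), (.ovl [12] 13 [], [0, 0, 0, 0, 0, 0, 0, 0, 0, 0, 0, 0, 0,
    0, 0, 0, 0, 0, 0, 0, 0, 0, 0, 0, 0, 0, 0, 0, 0, 0, 0, 0, 0, 0, 0, 0, 0, 0, 0, 0, 0, 0, 0, 0,
    0, 0, 0, 0, 0, 0, 0, 0, 0, 0, 0, 0, 0, 0, 0, 0, 0, 0, 0, 0, 0, 0, 0, 0, 0, 1, 0, 0, 0, 0, 0,
    0, 0, 0, 0, 0, 0, 0, 0, 0, 0, 0, 0, 0, 0, 1, 1]), (.ovl [2] 14 [], [0, 0, 0, 0, 1, 1, 0, 0, 0,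
    0, 1, 1, 1, 0, 0, 0, 0, 0, 0, 0, 0, 0, 1, 0, 1, 0, 0, 0, 0, 0, 0, 0, 0, 0, 0, 0, 0, 1, 1, 0,
    0, 0, 0, 1, 0, 0, 0, 0, 0, 0, 0, 0, 0, 0, 0, 1, 0, 0, 0, 0, 1, 1, 1, 0, 0, 0, 0, 0, 0, 0, 0,
    0, 0, 0, 0, 0, 0, 0, 0, 0, 0, 0, 0, 0, 0, 0, 0, 0, 1, 1, 0]), (.ovl [2] 0 [], [0, 0, 0, 0, 1,
    1, 0, 0, 0, 0, 1, 1, 1, 0, 0, 0, 1, 1, 0, 0, 0, 0, 1, 0, 0, 0, 0, 0, 0, 0, 0, 0, 0, 0, 0, 0,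
    0, 1, 0, 0, 0, 0, 0, 0, 0, 0, 0, 0, 0, 0, 0, 0, 0, 0, 0, 1, 0, 0, 0, 0, 0, 0, 0, 0, 0, 0, 0,
    1, 0, 0, 0, 0, 0, 0, 0, 0, 0, 0, 0, 0, 0, 0, 0, 0, 0, 0, 0, 0, 0, 0, 1]), (.ovl [3] 14 [], [0,
    0, 0, 0, 0, 0, 0, 0, 1, 1, 0, 1, 1, 0, 0, 0, 0, 0, 0, 1, 1, 1, 1, 1, 0, 0, 0, 0, 0, 0, 0, 0,
    0, 0, 0, 0, 0, 0, 0, 1, 0, 0, 0, 1, 0, 0, 1, 1, 0, 0, 0, 0, 1, 0, 0, 0, 1, 1, 1, 1, 1, 0, 1,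
    1, 1, 0, 1, 0, 1, 1, 1, 0, 0, 0, 1, 0, 1, 1, 0, 1, 0, 1, 1, 0, 1, 0, 0, 1, 1, 1, 1]), (.ovl
    [4] 14 [], [0, 0, 0, 0, 0, 0, 0, 0, 0, 0, 0, 0, 0, 0, 0, 0, 0, 0, 0, 0, 0, 0, 1, 1, 1, 0, 0,
    0, 0, 0, 0, 0, 0, 0, 0, 0, 0, 0, 0, 0, 0, 0, 0, 0, 0, 0, 0, 0, 0, 0, 0, 0, 0, 0, 0, 1, 0, 0,
    0, 0, 0, 1, 1, 0, 0, 0, 0, 1, 1, 1, 0, 0, 0, 0, 0, 0, 0, 0, 0, 0, 0, 0, 0, 0, 0, 0, 0, 0, 1,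
    1]), (.ovl [5] 14 [], [0, 0, 0, 0, 0, 0, 0, 0, 0, 0, 0, 0, 0, 0, 0, 0, 0, 0, 0, 0, 0, 0, 1, 0,
    0, 0, 0, 0, 0, 0, 0, 0, 0, 0, 0, 0, 0, 0, 0, 0, 0, 0, 0, 1, 0, 0, 0, 0, 0, 0, 0, 0, 0, 0, 0,
    1, 0, 0, 0, 0, 0, 0, 0, 0, 0, 0, 0, 1, 0, 0, 0, 0, 0, 0, 0, 0, 0, 0, 0, 0, 0, 0, 0, 0, 0, 0,
    0, 0, 0, 0]), (.ovl [6] 14 [], [0, 0, 0, 0, 0, 0, 0, 0, 0, 0, 1, 1, 0, 0, 0, 0, 0, 0, 0, 0, 0,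
    0, 1, 1, 1, 0, 0, 0, 0, 0, 0, 0, 0, 0, 0, 0, 0, 0, 0, 0, 0, 1, 0, 1, 0, 0, 0, 0, 0, 0, 0, 0,
    0, 0, 0, 0, 1, 0, 1, 0, 0, 0, 1, 1, 0, 1, 0, 1, 0, 1, 0, 0, 0, 1, 0, 0, 0, 0, 0, 0, 0, 0, 0,
    0, 1, 0, 0, 0, 0, 0, 1]), (.ovl [7] 14 [], [0, 0, 0, 0, 0, 0, 0, 0, 0, 0, 0, 1, 1, 0, 0, 0, 0,
    0, 0, 0, 0, 0, 0, 0, 0, 0, 0, 0, 0, 0, 0, 0, 0, 0, 0, 0, 0, 0, 0, 0, 0, 1, 1, 1, 0, 0, 0, 0,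
    0, 0, 0, 0, 0, 0, 0, 0, 0, 1, 1, 1, 1, 1, 1, 0, 1, 1, 1, 1, 0, 1, 0, 0, 0, 0, 0, 0, 0, 0, 1,
    0, 0, 0, 1, 1, 1, 1, 0, 1, 0, 0]), (.ovl [8] 14 [], [0, 0, 0, 0, 0, 0, 0, 0, 0, 0, 0, 0, 0, 0,
    0, 0, 0, 0, 0, 0, 0, 0, 0, 1, 0, 0, 0, 0, 0, 0, 0, 0, 0, 0, 0, 0, 0, 0, 0, 0, 0, 0, 0, 1, 0,
    0, 0, 0, 0, 0, 0, 0, 0, 0, 0, 0, 0, 0, 1, 0, 1, 1, 0, 0, 0, 1, 0, 1, 1, 0, 0, 0, 0, 0, 0, 0,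
    0, 0, 0, 0, 0, 0, 1, 0, 0, 0, 0, 0, 0]), (.ovl [9] 14 [], [0, 0, 0, 0, 0, 0, 0, 0, 0, 0, 0, 0,
    0, 0, 0, 0, 0, 0, 0, 0, 0, 0, 0, 0, 1, 0, 0, 0, 0, 0, 0, 0, 0, 0, 0, 0, 0, 0, 0, 0, 0, 0, 0,
    1, 1, 0, 0, 0, 0, 0, 0, 0, 0, 0, 0, 0, 0, 0, 0, 1, 1, 1, 1, 0, 0, 0, 1, 1, 1, 1, 0, 0, 0, 0,
    0, 0, 0, 0, 0, 0, 0, 0, 0, 0, 0, 1, 0, 0, 1, 0, 1]), (.ovl [10] 14 [], [0, 0, 0, 0, 0, 0, 0,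
    0, 0, 0, 0, 0, 0, 0, 0, 0, 0, 0, 0, 0, 0, 0, 0, 0, 0, 0, 0, 0, 0, 0, 0, 0, 0, 0, 0, 0, 0, 0,
    0, 0, 0, 0, 0, 0, 0, 0, 0, 0, 0, 0, 0, 0, 0, 0, 0, 0, 0, 0, 0, 0, 1, 0, 0, 0, 0, 0, 0, 1]),
    (.ovl [11] 14 [], [0, 0, 0, 0, 0, 0, 0, 0, 0, 0, 0, 0, 0, 0, 0, 0, 0, 0, 0, 0, 0, 0, 0, 0, 0,
    0, 0, 0, 0, 0, 0, 0, 0, 0, 0, 0, 0, 0, 0, 0, 0, 0, 0, 0, 0, 0, 0, 0, 0, 0, 0, 0, 0, 0, 0, 0,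
    0, 0, 0, 0, 0, 1, 0, 0, 0, 0, 0, 0, 1, 0, 0, 0, 0, 0, 0, 0, 0, 0, 0, 0, 0, 0, 0, 0, 0, 0, 0,
    0, 1]), (.ovl [12] 14 [], [0, 0, 0, 0, 0, 0, 0, 0, 0, 0, 0, 0, 0, 0, 0, 0, 0, 0, 0, 0, 0, 0,
    0, 0, 0, 0, 0, 0, 0, 0, 0, 0, 0, 0, 0, 0, 0, 0, 0, 0, 0, 0, 0, 0, 0, 0, 0, 0, 0, 0, 0, 0, 0,
    0, 0, 0, 0, 0, 0, 0, 0, 0, 1, 0, 0, 0, 0, 0, 0, 1, 0, 0, 0, 0, 0, 0, 0, 0, 0, 0, 0, 0, 0, 0,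
    0, 0, 0, 0, 0, 1]), (.ovl [3] 15 [], [0, 0, 0, 0, 0, 0, 1, 0, 0, 0, 1, 0, 0, 0, 0, 0, 0, 0, 0,
    0, 1, 1, 1, 1, 0, 0, 0, 0, 0, 0, 0, 0, 0, 0, 0, 0, 0, 0, 0, 0, 0, 0, 0, 0, 0, 0, 0, 0, 1, 0,
    0, 0, 1, 0, 0, 0, 0, 0, 0, 0, 0, 0, 0, 0, 0, 0, 0, 0, 0, 0, 0, 0, 0, 0, 1, 0, 0, 0, 0, 0, 0,
    0, 1, 0, 0, 0, 0, 0, 0]), (.ovl [3] 0 [], [0, 0, 0, 0, 0, 0, 1, 0, 1, 0, 0, 0, 0, 0, 0, 0, 0,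
    0, 1, 0, 0, 0, 1, 0, 0, 0, 0, 0, 0, 0, 0, 0, 0, 0, 0, 0, 0, 0, 0, 0, 0, 0, 0, 0, 0, 0, 1, 0,
    0, 0, 0, 0, 0, 0, 0, 0, 0, 0, 0, 0, 0, 0, 0, 0, 0, 0, 0, 0, 0, 0, 0, 0, 0, 1, 0, 0, 0, 0, 0,
    0, 0, 0, 1]), (.ovl [4] 15 [], [0, 0, 0, 0, 0, 0, 0, 0, 0, 0, 1, 0, 0, 0, 0, 0, 0, 0, 0, 0, 1,
    0, 0, 0, 0, 0, 0, 0, 0, 0, 0, 0, 0, 0, 0, 0, 0, 0, 0, 0, 0, 0, 0, 0, 0, 0, 0, 0, 0, 0, 0, 0,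
    0, 0, 0, 0, 1, 0, 0, 0, 1, 0, 0, 0, 0, 0, 0, 0, 0, 0, 0, 1]), (.ovl [5] 15 [], [0, 0, 0, 0, 0,
    0, 0, 0, 0, 0, 1, 1, 0, 0, 0, 0, 0, 0, 0, 0, 0, 1, 0, 0, 0, 0, 0, 0, 0, 0, 0, 0, 0, 0, 0, 0,
    0, 0, 0, 0, 0, 0, 0, 0, 0, 0, 0, 0, 0, 0, 0, 0, 1, 0, 0, 0, 0, 0, 0, 0, 0, 0, 0, 1, 0, 0, 0,
    1, 0, 0, 0, 0, 1, 1, 0, 0, 0, 0, 0, 0, 0, 0, 0, 0, 0, 1, 1, 0, 1]), (.ovl [6] 15 [], [0, 0, 0,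
    0, 0, 0, 0, 0, 0, 0, 0, 0, 0, 0, 0, 0, 0, 0, 0, 0, 0, 0, 1, 1, 0, 0, 0, 0, 0, 0, 0, 0, 0, 0,
    0, 0, 0, 0, 0, 0, 0, 0, 0, 0, 0, 0, 0, 0, 0, 0, 1, 0, 1, 0, 0, 0, 0, 0, 0, 0, 0, 0, 0, 0, 0,
    0, 0, 0, 0, 0, 0, 1, 0, 1, 1, 0, 0, 0, 0, 0, 0, 0, 0, 1, 0, 0, 0, 0, 0]), (.ovl [7] 15 [], [0,
    0, 0, 0, 0, 0, 0, 0, 0, 0, 0, 0, 0, 0, 0, 0, 0, 0, 0, 0, 0, 0, 0, 0, 0, 0, 0, 0, 0, 0, 0, 0,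
    0, 0, 0, 0, 0, 0, 0, 0, 0, 0, 0, 0, 0, 0, 0, 0, 0, 0, 1, 1, 1, 0, 0, 0, 0, 0, 0, 0, 0, 0, 0,
    0, 0, 0, 0, 0, 0, 0, 1, 1, 1, 1, 0, 0, 0, 0, 1, 0, 0, 0, 1, 0, 0, 1]), (.ovl [8] 15 [], [0, 0,
    0, 0, 0, 0, 0, 0, 0, 0, 0, 0, 0, 0, 0, 0, 0, 0, 0, 0, 0, 0, 0, 0, 0, 0, 0, 0, 0, 0, 0, 0, 0,
    0, 0, 0, 0, 0, 0, 0, 0, 0, 0, 0, 0, 0, 0, 0, 0, 0, 0, 0, 1, 0, 0, 0, 0, 0, 0, 0, 0, 0, 0, 0,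
    0, 0, 0, 0, 0, 0, 0, 1, 0, 1, 0, 0, 0, 0, 0, 0, 0, 0, 1]), (.ovl [9] 15 [], [0, 0, 0, 0, 0, 0,
    0, 0, 0, 0, 0, 0, 0, 0, 0, 0, 0, 0, 0, 0, 0, 0, 0, 0, 0, 0, 0, 0, 0, 0, 0, 0, 0, 0, 0, 0, 0,
    0, 0, 0, 0, 0, 0, 0, 0, 0, 0, 0, 0, 0, 0, 0, 1, 1, 0, 0, 0, 0, 0, 0, 0, 0, 0, 0, 0, 0, 0, 0,
    0, 0, 0, 0, 1, 1, 1, 0, 0, 0, 0, 0, 0, 0, 0, 0, 0, 1, 0, 0, 1]), (.ovl [10] 15 [], [0, 0, 0,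
    0, 0, 0, 0, 0, 0, 0, 0, 0, 0, 0, 0, 0, 0, 0, 0, 0, 0, 0, 0, 0, 0, 0, 0, 0, 0, 0, 0, 0, 0, 0,
    0, 0, 0, 0, 0, 0, 0, 0, 0, 0, 0, 0, 0, 0, 0, 0, 0, 0, 0, 0, 0, 0, 0, 0, 0, 0, 0, 0, 0, 0, 0,
    0, 0, 0, 0, 0, 0, 0, 0, 1]), (.ovl [11] 15 [], [0, 0, 0, 0, 0, 0, 0, 0, 0, 0, 0, 0, 0, 0, 0,
    0, 0, 0, 0, 0, 0, 0, 0, 0, 0, 0, 0, 0, 0, 0, 0, 0, 0, 0, 0, 0, 0, 0, 0, 0, 0, 0, 0, 0, 0, 0,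
    0, 0, 0, 0, 0, 0, 0, 0, 0, 0, 0, 0, 0, 0, 0, 0, 0, 0, 0, 0, 0, 0, 0, 0, 0, 0, 0, 0, 1, 0, 0,
    0, 0, 0, 0, 0, 0, 0, 0, 0, 0, 0, 1]), (.ovl [12] 15 [], [0, 0, 0, 0, 0, 0, 0, 0, 0, 0, 0, 0,
    0, 0, 0, 0, 0, 0, 0, 0, 0, 0, 0, 0, 0, 0, 0, 0, 0, 0, 0, 0, 0, 0, 0, 0, 0, 0, 0, 0, 0, 0, 0,
    0, 0, 0, 0, 0, 0, 0, 0, 0, 0, 0, 0, 0, 0, 0, 0, 0, 0, 0, 0, 0, 0, 0, 0, 0, 0, 0, 0, 0, 0, 0,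
    0, 1, 0, 0, 0, 0, 0, 0, 0, 0, 0, 0, 0, 0, 0, 1]), (.ovl [5] 16 [], [0, 0, 0, 0, 0, 0, 0, 0, 0,
    0, 0, 0, 0, 0, 0, 0, 0, 0, 0, 0, 0, 0, 0, 0, 0, 0, 0, 0, 0, 0, 0, 0, 0, 0, 0, 0, 0, 0, 0, 0,
    0, 0, 0, 0, 0, 0, 0, 0, 0, 0, 0, 0, 0, 0, 0, 0, 0, 0, 0, 0, 1]), (.ovl [6] 16 [], [0, 0, 0, 0,
    0, 0, 0, 0, 0, 0, 0, 0, 0, 0, 0, 0, 0, 0, 0, 0, 0, 0, 1, 0, 0, 0, 0, 0, 0, 0, 0, 0, 0, 0, 0,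
    0, 0, 0, 0, 0, 0, 0, 0, 0, 0, 0, 0, 0, 0, 0, 0, 0, 0, 0, 0, 0, 0, 0, 1, 0, 1, 0, 0, 0, 0, 0,
    0, 0, 0, 0, 0, 0, 0, 0, 0, 0, 0, 0, 0, 0, 0, 0, 1]), (.ovl [7] 16 [], [0, 0, 0, 0, 0, 0, 0, 0,
    0, 0, 0, 0, 0, 0, 0, 0, 0, 0, 0, 0, 0, 0, 0, 1, 0, 0, 0, 0, 0, 0, 0, 0, 0, 0, 0, 0, 0, 0, 0,
    0, 0, 0, 0, 0, 0, 0, 0, 0, 0, 0, 0, 0, 0, 0, 0, 0, 0, 0, 1, 1, 1, 0, 0, 0, 0, 0, 0, 0, 0, 0,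
    0, 0, 0, 0, 0, 0, 0, 0, 0, 0, 0, 0, 0, 1, 0, 0, 1, 0, 1]), (.ovl [9] 16 [], [0, 0, 0, 0, 0, 0,
    0, 0, 0, 0, 0, 0, 0, 0, 0, 0, 0, 0, 0, 0, 0, 0, 0, 0, 0, 0, 0, 0, 0, 0, 0, 0, 0, 0, 0, 0, 0,
    0, 0, 0, 0, 0, 0, 0, 0, 0, 0, 0, 0, 0, 0, 0, 0, 0, 0, 0, 0, 0, 0, 0, 1, 1]), (.ovl [5] 17 [],
    [0, 0, 0, 0, 0, 0, 0, 0, 0, 0, 1, 0, 0, 0, 0, 0, 0, 0, 0, 0, 0, 0, 1, 1, 1, 0, 0, 0, 0, 0, 0,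
    0, 0, 0, 0, 0, 0, 0, 0, 0, 0, 0, 0, 0, 0, 0, 0, 0, 0, 0, 0, 0, 0, 0, 0, 0, 0, 0, 0, 0, 0, 0,
    0, 0, 0, 0, 0, 1, 0, 0, 0, 0, 0, 0, 0, 0, 0, 0, 0, 0, 0, 0, 0, 0, 0, 0, 0, 0, 0, 0]), (.ovl
    [6] 17 [], [0, 0, 0, 0, 0, 0, 0, 0, 0, 0, 0, 0, 0, 0, 0, 0, 0, 0, 0, 0, 0, 0, 1, 1, 0, 0, 0,
    0, 0, 0, 0, 0, 0, 0, 0, 0, 0, 0, 0, 0, 0, 0, 0, 0, 0, 0, 0, 0, 0, 0, 0, 0, 0, 0, 0, 0, 0, 0,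
    0, 0, 0, 0, 0, 0, 0, 1, 0, 1, 0, 0, 0, 0, 0, 1, 0, 0, 0, 0, 0, 0, 0, 0, 0, 1, 0, 0, 0, 0, 0]),
    (.ovl [7] 17 [], [0, 0, 0, 0, 0, 0, 0, 0, 0, 0, 0, 0, 0, 0, 0, 0, 0, 0, 0, 0, 0, 0, 0, 0, 1,
    0, 0, 0, 0, 0, 0, 0, 0, 0, 0, 0, 0, 0, 0, 0, 0, 0, 0, 0, 0, 0, 0, 0, 0, 0, 0, 0, 0, 0, 0, 0,
    0, 0, 0, 0, 0, 0, 0, 0, 0, 1, 1, 1, 0, 0, 0, 0, 0, 0, 0, 0, 0, 0, 1, 0, 0, 0, 1, 0, 1, 1, 0,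
    1, 0, 0]), (.ovl [8] 17 [], [0, 0, 0, 0, 0, 0, 0, 0, 0, 0, 0, 0, 0, 0, 0, 0, 0, 0, 0, 0, 0, 0,
    0, 0, 0, 0, 0, 0, 0, 0, 0, 0, 0, 0, 0, 0, 0, 0, 0, 0, 0, 0, 0, 0, 0, 0, 0, 0, 0, 0, 0, 0, 0,
    0, 0, 0, 0, 0, 0, 0, 0, 0, 0, 0, 0, 0, 0, 1, 0, 0, 0, 0, 0, 0, 0, 0, 0, 0, 0, 0, 0, 0, 1]),
    (.ovl [9] 17 [], [0, 0, 0, 0, 0, 0, 0, 0, 0, 0, 0, 0, 0, 0, 0, 0, 0, 0, 0, 0, 0, 0, 0, 0, 0,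
    0, 0, 0, 0, 0, 0, 0, 0, 0, 0, 0, 0, 0, 0, 0, 0, 0, 0, 0, 0, 0, 0, 0, 0, 0, 0, 0, 0, 0, 0, 0,
    0, 0, 0, 0, 0, 0, 0, 0, 0, 0, 0, 1, 1, 0, 0, 0, 0, 0, 0, 0, 0, 0, 0, 0, 0, 0, 0, 0, 0, 1, 0,
    0, 1]), (.ovl [11] 17 [], [0, 0, 0, 0, 0, 0, 0, 0, 0, 0, 0, 0, 0, 0, 0, 0, 0, 0, 0, 0, 0, 0,
    0, 0, 0, 0, 0, 0, 0, 0, 0, 0, 0, 0, 0, 0, 0, 0, 0, 0, 0, 0, 0, 0, 0, 0, 0, 0, 0, 0, 0, 0, 0,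
    0, 0, 0, 0, 0, 0, 0, 0, 0, 0, 0, 0, 0, 0, 0, 0, 0, 0, 0, 0, 0, 0, 0, 0, 0, 0, 0, 0, 0, 0, 0,
    0, 0, 0, 0, 1]), (.ovl [6] 18 [], [0, 0, 0, 0, 0, 0, 0, 0, 1, 0, 1, 0, 0, 0, 0, 0, 0, 0, 0, 0,
    0, 0, 1, 0, 0, 0, 0, 0, 0, 0, 0, 0, 0, 0, 0, 0, 0, 0, 0, 0, 0, 0, 0, 0, 0, 0, 0, 0, 0, 0, 0,
    0, 0, 0, 0, 0, 0, 0, 0, 0, 0, 0, 0, 0, 0, 0, 0, 0, 0, 0, 0, 1, 0, 1, 0, 0, 0, 0, 0, 0, 0, 0,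
    1]), (.ovl [6] 0 [], [0, 0, 0, 0, 0, 0, 0, 0, 1, 0, 1, 0, 0, 0, 0, 0, 0, 0, 0, 0, 1, 0, 1, 0,
    0, 0, 0, 0, 0, 0, 0, 0, 0, 0, 0, 0, 0, 0, 0, 0, 0, 0, 0, 0, 0, 0, 0, 0, 0, 0, 0, 0, 0, 0, 0,
    0, 1, 0, 0, 0, 0, 0, 0, 0, 0, 0, 0, 0, 0, 0, 0, 0, 0, 0, 0, 0, 0, 0, 0, 0, 0, 0, 1]), (.ovl
    [7] 18 [], [0, 0, 0, 0, 0, 0, 0, 0, 0, 0, 0, 0, 0, 0, 0, 0, 0, 0, 0, 0, 0, 0, 0, 0, 0, 0, 0,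
    0, 0, 0, 0, 0, 0, 0, 0, 0, 0, 0, 0, 0, 0, 0, 0, 0, 0, 0, 0, 0, 0, 0, 0, 0, 0, 0, 0, 0, 0, 0,
    0, 0, 0, 0, 0, 0, 0, 0, 0, 0, 0, 0, 0, 1, 1, 1, 0, 0, 1, 0, 1, 0, 0, 1, 0, 0, 0, 1]), (.ovl
    [9] 18 [], [0, 0, 0, 0, 0, 0, 0, 0, 0, 0, 0, 0, 0, 0, 0, 0, 0, 0, 0, 0, 0, 0, 0, 0, 0, 0, 0,
    0, 0, 0, 0, 0, 0, 0, 0, 0, 0, 0, 0, 0, 0, 0, 0, 0, 0, 0, 0, 0, 0, 0, 0, 0, 0, 0, 0, 0, 0, 0,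
    0, 0, 0, 0, 0, 0, 0, 0, 0, 0, 0, 0, 0, 0, 0, 1, 1, 0, 0, 0, 0, 0, 0, 1, 1, 1, 0, 1, 0, 0, 1]),
    (.ovl [7] 19 [], [0, 0, 0, 0, 0, 0, 0, 0, 1, 1, 1, 0, 0, 0, 0, 0, 0, 0, 0, 0, 0, 0, 0, 1, 1,
    0, 0, 0, 0, 0, 0, 0, 0, 0, 0, 0, 0, 0, 0, 0, 0, 0, 0, 0, 0, 0, 0, 0, 0, 0, 0, 0, 0, 0, 0, 0,
    0, 0, 0, 0, 0, 0, 0, 0, 0, 0, 0, 0, 0, 0, 0, 0, 0, 0, 0, 0, 1, 1, 1, 0, 0, 1, 1, 0, 0, 1, 0,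
    0, 0, 0]), (.ovl [7] 0 [], [0, 0, 0, 0, 0, 0, 0, 0, 1, 1, 0, 0, 0, 0, 0, 0, 0, 0, 0, 0, 1, 1,
    1, 0, 0, 0, 0, 0, 0, 0, 0, 0, 0, 0, 0, 0, 0, 0, 0, 0, 0, 0, 0, 0, 0, 0, 0, 0, 0, 0, 0, 0, 0,
    0, 0, 0, 0, 1, 0, 0, 0, 0, 0, 0, 0, 0, 0, 0, 0, 0, 0, 0, 0, 0, 0, 0, 0, 0, 0, 0, 0, 1, 1, 0,
    0, 0, 0, 0, 1]), (.ovl [8] 19 [], [0, 0, 0, 0, 0, 0, 0, 0, 0, 0, 0, 0, 0, 0, 0, 0, 0, 0, 0, 0,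
    0, 0, 0, 0, 0, 0, 0, 0, 0, 0, 0, 0, 0, 0, 0, 0, 0, 0, 0, 0, 0, 0, 0, 0, 0, 0, 0, 0, 0, 0, 0,
    0, 0, 0, 0, 0, 0, 0, 0, 0, 0, 0, 0, 0, 0, 0, 0, 0, 0, 0, 0, 0, 0, 0, 0, 0, 0, 0, 1, 0, 0, 1,
    0, 0, 0, 1]), (.ovl [9] 19 [], [0, 0, 0, 0, 0, 0, 0, 0, 0, 0, 0, 0, 0, 0, 0, 0, 0, 0, 0, 0, 0,
    0, 0, 0, 0, 0, 0, 0, 0, 0, 0, 0, 0, 0, 0, 0, 0, 0, 0, 0, 0, 0, 0, 0, 0, 0, 0, 0, 0, 0, 0, 0,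
    0, 0, 0, 0, 0, 0, 0, 0, 0, 0, 0, 0, 0, 0, 0, 0, 0, 0, 0, 0, 0, 0, 0, 0, 0, 0, 1, 1, 0, 1, 1,
    1, 0, 0, 1, 0, 1]), (.ovl [11] 19 [], [0, 0, 0, 0, 0, 0, 0, 0, 0, 0, 0, 0, 0, 0, 0, 0, 0, 0,
    0, 0, 0, 0, 0, 0, 0, 0, 0, 0, 0, 0, 0, 0, 0, 0, 0, 0, 0, 0, 0, 0, 0, 0, 0, 0, 0, 0, 0, 0, 0,
    0, 0, 0, 0, 0, 0, 0, 0, 0, 0, 0, 0, 0, 0, 0, 0, 0, 0, 0, 0, 0, 0, 0, 0, 0, 0, 0, 0, 0, 0, 0,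
    0, 0, 0, 1, 0, 0, 1, 0, 1]), (.ovl [12] 19 [], [0, 0, 0, 0, 0, 0, 0, 0, 0, 0, 0, 0, 0, 0, 0,
    0, 0, 0, 0, 0, 0, 0, 0, 0, 0, 0, 0, 0, 0, 0, 0, 0, 0, 0, 0, 0, 0, 0, 0, 0, 0, 0, 0, 0, 0, 0,
    0, 0, 0, 0, 0, 0, 0, 0, 0, 0, 0, 0, 0, 0, 0, 0, 0, 0, 0, 0, 0, 0, 0, 0, 0, 0, 0, 0, 0, 0, 0,
    0, 0, 0, 0, 0, 0, 0, 1, 0, 0, 1, 0, 1]), (.ovl [9] 21 [], [0, 0, 0, 0, 0, 0, 0, 0, 0, 0, 1, 1,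
    0, 0, 0, 0, 0, 0, 0, 0, 0, 0, 0, 0, 0, 0, 0, 0, 0, 0, 0, 0, 0, 0, 0, 0, 0, 0, 0, 0, 0, 0, 0,
    0, 0, 0, 0, 0, 0, 0, 0, 0, 0, 0, 0, 0, 0, 0, 0, 0, 0, 0, 0, 0, 0, 0, 0, 0, 0, 0, 0, 0, 0, 0,
    0, 0, 0, 0, 0, 0, 0, 0, 0, 0, 0, 1, 1, 0, 1]), (.ovl [1] 1 [], [0, 0, 0, 0, 0, 0, 0, 0, 0, 0,
    0, 1, 1, 0, 0, 0, 0, 0, 0, 0, 0, 0, 0, 0, 0, 0, 0, 1, 1, 0, 0, 0, 0, 1, 0, 0, 0, 0, 0, 0, 0,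
    0, 0, 0, 0, 0, 0, 0, 0, 0, 0, 0, 0, 0, 0, 0, 0, 0, 0, 0, 0, 0, 0, 0, 0, 0, 0, 0, 1, 1, 0, 0,
    0, 0, 0, 0, 0, 0, 0, 0, 0, 0, 0, 0, 0, 0, 0, 0, 0, 0, 1]), (.ovl [2] 25 [], [0, 0, 0, 0, 1, 1,
    0, 0, 0, 0, 1, 1, 1, 0, 0, 0, 0, 0, 0, 0, 0, 0, 0, 0, 0, 0, 0, 0, 0, 0, 0, 0, 0, 1, 0, 1, 0,
    1, 1, 0, 0, 0, 0, 1, 0, 0, 0, 0, 0, 0, 0, 0, 0, 0, 0, 1, 0, 0, 0, 0, 1, 1, 1, 0, 0, 0, 0, 0,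
    0, 0, 0, 0, 0, 0, 0, 0, 0, 0, 0, 0, 0, 0, 0, 0, 0, 0, 0, 0, 1, 1, 0]), (.ovl [2] 1 [], [0, 0,
    0, 0, 1, 1, 0, 0, 0, 0, 1, 0, 0, 0, 0, 0, 0, 0, 0, 0, 0, 0, 0, 0, 0, 0, 0, 1, 1, 0, 0, 0, 0,
    1, 0, 0, 0, 1, 1, 0, 0, 0, 0, 1, 0, 0, 0, 0, 0, 0, 0, 0, 0, 0, 0, 1, 0, 0, 0, 0, 1, 1, 1, 0,
    0, 0, 0, 0, 1, 1, 0, 0, 0, 0, 0, 0, 0, 0, 0, 0, 0, 0, 0, 0, 0, 0, 0, 0, 0, 0, 0]), (.ovl [3]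
    25 [], [0, 0, 0, 0, 0, 0, 0, 0, 1, 1, 0, 1, 1, 0, 0, 0, 0, 0, 0, 0, 0, 0, 0, 0, 0, 0, 0, 0, 0,
    0, 1, 1, 1, 1, 1, 0, 0, 0, 0, 0, 1, 0, 0, 0, 1, 1, 1, 1, 0, 0, 0, 0, 1, 0, 0, 0, 0, 0, 1, 1,
    1, 1, 0, 0, 0, 0, 1, 1, 1, 0, 0, 0, 0, 0, 0, 0, 1, 1, 1, 0, 1, 1, 0, 1, 1, 0, 0, 1, 1, 0, 0]),
    (.ovl [3] 26 [], [0, 0, 0, 0, 0, 0, 0, 1, 0, 0, 0, 1, 1, 0, 0, 0, 0, 0, 0, 0, 0, 0, 0, 0, 0,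
    0, 0, 0, 0, 0, 0, 1, 1, 1, 1, 0, 0, 0, 0, 0, 0, 0, 0, 0, 0, 0, 0, 0, 0, 1, 0, 0, 0, 1, 1, 0,
    0, 0, 0, 0, 0, 0, 0, 0, 0, 0, 0, 0, 0, 0, 0, 0, 0, 0, 0, 0, 0, 0, 0, 1, 1, 0, 0, 1, 1, 0, 0,
    1, 0, 0, 1]), (.ovl [3] 1 [], [0, 0, 0, 0, 0, 0, 0, 1, 1, 1, 0, 0, 0, 0, 0, 0, 0, 0, 0, 0, 0,
    0, 0, 0, 0, 0, 0, 0, 0, 0, 1, 0, 0, 0, 1, 1, 0, 0, 0, 0, 0, 0, 0, 0, 0, 0, 1, 1, 0, 0, 0, 0,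
    1, 0, 0, 0, 0, 0, 0, 0, 0, 0, 0, 0, 0, 1, 0, 0, 0, 0, 0, 0, 0, 0, 0, 0, 0, 0, 0, 1, 1, 1, 1,
    1, 1, 1, 1, 1, 1, 1, 0]), (.ovl [4] 26 [], [0, 0, 0, 0, 0, 0, 0, 0, 0, 0, 0, 1, 0, 0, 0, 0, 0,
    0, 0, 0, 0, 0, 0, 0, 0, 0, 0, 0, 0, 0, 0, 1, 0, 0, 0, 0, 0, 0, 0, 0, 0, 0, 0, 0, 0, 0, 0, 0,
    0, 0, 0, 0, 0, 1, 1, 0, 0, 1, 0, 0, 0, 1, 1, 0, 0, 0, 0, 0, 0, 0, 0, 0, 0, 0, 0, 0, 1, 0, 0,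
    1, 1, 0, 0, 1, 0, 0, 0, 0, 0, 0, 0]), (.ovl [5] 26 [], [0, 0, 0, 0, 0, 0, 0, 0, 0, 0, 0, 0, 1,
    0, 0, 0, 0, 0, 0, 0, 0, 0, 0, 0, 0, 0, 0, 0, 0, 0, 0, 0, 1, 0, 0, 0, 0, 0, 0, 0, 0, 0, 0, 0,
    0, 0, 0, 0, 0, 0, 0, 0, 0, 1, 1, 0, 0, 0, 0, 0, 0, 0, 0, 0, 1, 0, 0, 0, 1, 1, 0, 0, 0, 0, 0,
    0, 0, 1, 0, 1, 1, 0, 0, 0, 0, 0, 0, 1, 0, 0, 0]), (.ovl [6] 26 [], [0, 0, 0, 0, 0, 0, 0, 0, 0,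
    0, 0, 0, 0, 0, 0, 0, 0, 0, 0, 0, 0, 0, 0, 0, 0, 0, 0, 0, 0, 0, 0, 0, 0, 1, 1, 0, 0, 0, 0, 0,
    0, 0, 0, 0, 0, 0, 0, 0, 0, 0, 1, 0, 0, 1, 1, 0, 0, 0, 0, 0, 0, 0, 0, 0, 0, 0, 0, 0, 0, 0, 1,
    0, 0, 0, 1, 1, 1, 0, 1, 0, 1, 0, 1, 0, 1, 0, 0, 0, 0, 0, 0]), (.ovl [7] 26 [], [0, 0, 0, 0, 0,
    0, 0, 0, 0, 0, 0, 0, 0, 0, 0, 0, 0, 0, 0, 0, 0, 0, 0, 0, 0, 0, 0, 0, 0, 0, 0, 0, 0, 0, 0, 0,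
    0, 0, 0, 0, 0, 0, 0, 0, 0, 0, 0, 0, 0, 0, 1, 1, 0, 1, 1, 0, 0, 0, 0, 0, 0, 0, 0, 0, 0, 0, 0,
    0, 0, 0, 0, 0, 0, 0, 0, 0, 1, 1, 0, 0, 0, 0, 0, 1, 1, 0, 1, 1, 0, 0, 0]), (.ovl [3] 36 [], [0,
    0, 0, 0, 0, 0, 0, 1, 1, 1, 1, 1, 0, 0, 0, 0, 0, 0, 0, 0, 0, 0, 0, 0, 0, 0, 0, 0, 0, 0, 0, 0,
    0, 0, 0, 0, 0, 0, 0, 0, 0, 1, 1, 1, 1, 0, 0, 0, 0, 1, 1, 1, 1, 1, 0, 0, 0, 0, 0, 0, 0, 0, 0,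
    0, 0, 0, 0, 0, 0, 0, 0, 0, 0, 0, 0, 0, 1, 1, 1, 1, 0, 1, 1, 0, 1, 1, 1, 1, 1, 0, 0]), (.ovl
    [3] 2 [], [0, 0, 0, 0, 0, 0, 0, 1, 1, 1, 1, 0, 1, 0, 0, 0, 0, 0, 0, 0, 0, 0, 0, 0, 0, 0, 0, 0,
    0, 0, 0, 0, 0, 0, 0, 0, 0, 0, 0, 0, 1, 1, 1, 1, 1, 0, 0, 0, 0, 0, 0, 0, 1, 0, 1, 0, 0, 0, 0,
    0, 0, 0, 0, 0, 0, 0, 0, 0, 0, 0, 0, 0, 0, 0, 0, 0, 1, 1, 1, 1, 0, 1, 1, 1, 0, 1, 0, 0, 1, 0,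
    1]), (.cnj 0 [0, 0] [6], [0, 1, 1, 0, 1, 1, 1, 1, 1, 1, 1, 1, 1, 0, 0, 0, 0, 0, 0, 0, 0, 0, 0,
    0, 0, 1, 0, 0, 0, 1, 0, 1, 1, 1, 1, 0, 0, 1, 1, 1, 0, 0, 1, 0, 1, 0, 0, 0, 0, 0, 0, 0, 0, 0,
    0, 1, 0, 0, 0, 0, 1, 1, 1, 0, 0, 0, 0, 0, 0, 0, 0, 0, 1, 0, 0, 0, 0, 0, 0, 0, 0, 1, 0, 1, 0,
    1, 1, 0, 1, 1, 1, 0, 0, 0, 0, 0, 0, 1]), (.cnj 0 [1, 1] [9], [0, 1, 1, 1, 0, 1, 0, 0, 1, 1, 1,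
    0, 1, 0, 0, 0, 0, 0, 0, 0, 0, 0, 0, 0, 0, 1, 1, 1, 0, 1, 1, 1, 0, 0, 1, 1, 1, 0, 1, 1, 0, 1,
    1, 1, 0, 0, 1, 0, 1, 1, 0, 0, 1, 1, 1, 1, 1, 1, 0, 1, 0, 1, 1, 0, 0, 0, 0, 0, 0, 0, 1, 1, 1,
    1, 1, 0, 1, 0, 1, 0, 0, 0, 1, 0, 1, 0, 1, 1, 1, 1, 0, 0, 0, 0, 0, 0, 0, 0, 0, 0, 1]), (.cnj 0
    [2, 2] [6, 9], [0, 1, 1, 0, 1, 1, 1, 1, 1, 0, 0, 0, 1, 0, 0, 0, 0, 0, 0, 0, 0, 0, 0, 0, 0, 1,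
    0, 0, 1, 1, 1, 1, 0, 1, 1, 0, 0, 1, 0, 1, 1, 1, 1, 0, 1, 1, 0, 0, 0, 0, 0, 0, 0, 0, 0, 1, 0,
    0, 0, 0, 1, 1, 1, 1, 1, 1, 1, 1, 1, 1, 1, 1, 1, 1, 1, 1, 0, 1, 1, 0, 1, 0, 0, 1, 1, 1, 0, 0,
    0, 1, 1, 0, 0, 0, 0, 0, 0, 1, 0, 0, 1]), (.cnj 0 [3, 3] [9], [0, 0, 0, 1, 1, 0, 1, 0, 0, 0, 0,
    1, 0, 0, 0, 0, 0, 0, 0, 0, 0, 0, 0, 0, 0, 0, 0, 0, 0, 0, 0, 0, 0, 0, 0, 0, 0, 0, 0, 0, 0, 0,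
    0, 0, 0, 0, 0, 0, 1, 0, 0, 0, 1, 0, 0, 0, 0, 0, 0, 0, 0, 0, 0, 0, 0, 0, 0, 0, 0, 0, 0, 0, 0,
    0, 1, 0, 0, 0, 0, 0, 0, 0, 1, 0, 0, 1, 0, 0, 1, 0, 0, 0, 0, 0, 0, 0, 0, 0, 0, 0, 1]), (.cnj 0
    [5, 5] [7, 9], [0, 0, 0, 1, 1, 0, 1, 1, 0, 1, 1, 0, 0, 0, 0, 0, 0, 0, 0, 0, 0, 0, 0, 0, 0, 0,
    1, 1, 0, 1, 0, 1, 1, 1, 0, 0, 1, 1, 0, 1, 1, 0, 1, 1, 1, 0, 1, 0, 1, 0, 1, 0, 0, 0, 0, 0, 1,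
    0, 1, 1, 0, 1, 1, 0, 0, 0, 0, 0, 0, 0, 0, 0, 1, 0, 1, 1, 1, 1, 1, 0, 0, 0, 1, 0, 1, 0, 0, 1,
    0, 0, 1, 0, 0, 0, 0, 0, 0, 0, 1, 0, 1]), (.cnj 0 [1, 0] [0, 1], [0, 0, 0, 0, 0, 0, 0, 1, 1, 1,
    0, 0, 0, 0, 0, 0, 0, 0, 0, 0, 0, 0, 0, 0, 0, 0, 1, 1, 0, 0, 1, 0, 1, 1, 0, 1, 1, 1, 0, 0, 0,
    1, 0, 1, 1, 0, 0, 0, 1, 0, 0, 1, 0, 0, 0, 0, 1, 0, 1, 0, 0, 1, 1, 0, 0, 0, 0, 0, 0, 0, 0, 1,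
    0, 1, 0, 0, 1, 1, 0, 1, 1, 1, 0, 1, 0, 1, 0, 1, 0, 0, 0, 0, 0]), (.cnj 0 [2, 0] [0, 2, 7], [0,
    0, 0, 0, 0, 0, 0, 0, 0, 0, 0, 1, 1, 0, 0, 0, 0, 0, 0, 0, 0, 0, 0, 0, 0, 0, 0, 0, 1, 0, 1, 0,
    1, 0, 0, 0, 0, 0, 1, 0, 1, 1, 0, 0, 0, 1, 0, 0, 0, 0, 0, 0, 0, 0, 0, 0, 0, 0, 0, 0, 0, 0, 0,
    1, 1, 0, 1, 0, 0, 0, 1, 1, 0, 1, 1, 0, 1, 1, 1, 0, 1, 0, 0, 0, 1, 1, 1, 0, 0, 1, 1, 0, 0, 0,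
    0, 0, 0, 0, 1]), (.cnj 0 [3, 0] [0, 3, 6, 7], [0, 0, 0, 0, 0, 0, 0, 1, 0, 0, 0, 1, 0, 0, 0, 0,
    0, 0, 0, 0, 0, 0, 0, 0, 0, 0, 1, 0, 0, 1, 0, 0, 0, 1, 0, 0, 1, 0, 0, 1, 1, 1, 0, 1, 0, 0, 0,
    0, 1, 0, 1, 1, 1, 1, 0, 0, 0, 1, 0, 0, 0, 0, 0, 0, 0, 0, 0, 0, 0, 0, 0, 0, 1, 0, 0, 1, 1, 1,
    0, 0, 1, 0, 1, 1, 1, 0, 1, 0, 0, 0, 1, 0, 0, 0, 0, 0, 0, 1, 1]), (.cnj 11 [11, 11] [], [1, 1,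
    0, 0, 0, 1, 1, 0, 0, 0, 0, 1, 1, 1, 0, 0, 1, 0, 1, 0, 1, 1, 1, 0, 0, 0, 0, 1, 1, 1, 0, 0, 1,
    0, 1, 0, 0, 0, 0, 0, 0, 0, 0, 0, 0, 0, 0, 0, 0, 0, 0, 0, 0, 0, 0, 1, 1, 0, 1, 1, 1, 0, 0, 0,
    0, 0, 0, 0, 1, 1, 0, 1, 1, 1, 0, 0, 0, 0, 0, 0, 0, 1, 1, 0, 0, 0, 1, 1, 1, 0, 0, 0, 0, 0, 0,
    0, 0, 0, 0, 0, 0, 0, 0]), (.cnj 11 [12, 12] [], [1, 1, 1, 0, 0, 0, 0, 1, 1, 0, 0, 0, 0, 1, 1,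
    0, 0, 0, 0, 1, 1, 1, 0, 1, 1, 1, 0, 1, 0, 0, 1, 0, 0, 1, 0, 1, 0, 0, 0, 0, 1, 1, 1, 1, 1, 0,
    0, 0, 0, 0, 0, 0, 0, 0, 0, 0, 0, 0, 0, 0, 0, 0, 0, 0, 0, 0, 0, 0, 1, 1, 0, 0, 0, 0, 0, 0, 1,
    1, 1, 0, 1, 0, 0, 0, 1, 1, 1, 1, 1, 0, 1, 0, 0, 0, 0, 0, 0, 0, 0, 0, 0, 0, 0, 0]), (.cnj 11
    [13, 13] [19, 21], [1, 1, 1, 0, 1, 1, 0, 1, 1, 1, 1, 1, 0, 1, 1, 0, 1, 1, 0, 0, 1, 1, 1, 1, 0,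
    1, 0, 0, 1, 0, 0, 1, 1, 0, 0, 0, 0, 1, 1, 0, 0, 1, 1, 0, 1, 1, 0, 0, 0, 0, 0, 0, 0, 0, 0, 1,
    0, 0, 1, 1, 0, 1, 1, 0, 0, 1, 1, 1, 0, 0, 0, 0, 0, 0, 0, 0, 0, 0, 0, 0, 0, 1, 1, 0, 0, 0, 0,
    0, 1, 1, 0, 0, 0, 0, 0, 0, 0, 0, 0, 0, 0, 0, 0, 0, 0, 0, 0, 0, 0, 0, 1, 0, 1]), (.cnj 11 [14,
    14] [19, 20, 21], [0, 0, 1, 0, 0, 0, 1, 1, 1, 0, 0, 0, 1, 0, 0, 0, 0, 0, 0, 0, 0, 0, 0, 0, 0,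
    0, 0, 0, 0, 0, 0, 0, 0, 0, 0, 0, 0, 0, 0, 0, 1, 1, 0, 0, 1, 0, 0, 0, 0, 0, 0, 0, 0, 0, 0, 0,
    0, 0, 0, 0, 0, 0, 0, 0, 0, 0, 0, 0, 0, 0, 0, 0, 0, 0, 0, 0, 1, 0, 0, 0, 0, 0, 0, 0, 0, 0, 0,
    0, 1, 1, 0, 0, 0, 0, 0, 0, 0, 0, 0, 0, 0, 0, 0, 0, 0, 0, 0, 0, 0, 0, 1, 1, 1]), (.cnj 11 [15,
    15] [20], [0, 0, 1, 0, 1, 0, 1, 1, 1, 1, 0, 1, 1, 0, 0, 0, 0, 0, 0, 0, 0, 0, 0, 0, 0, 0, 0, 0,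
    0, 0, 0, 0, 0, 0, 0, 0, 0, 1, 1, 1, 1, 1, 1, 0, 0, 0, 0, 0, 0, 0, 0, 0, 0, 0, 0, 1, 1, 1, 1,
    1, 1, 1, 1, 1, 1, 1, 1, 1, 1, 0, 1, 1, 1, 1, 0, 1, 1, 1, 0, 0, 0, 1, 0, 1, 1, 0, 0, 1, 0, 1,
    1, 0, 0, 0, 0, 0, 0, 0, 0, 0, 0, 0, 0, 0, 0, 0, 0, 0, 0, 0, 0, 1]), (.cnj 11 [16, 16] [19, 20,
    21], [1, 1, 0, 0, 0, 1, 1, 0, 0, 0, 1, 1, 1, 1, 0, 0, 0, 0, 1, 0, 1, 0, 0, 0, 0, 0, 0, 0, 1,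
    1, 0, 0, 0, 1, 0, 0, 0, 0, 0, 0, 0, 0, 0, 0, 0, 0, 0, 0, 0, 0, 0, 0, 0, 0, 0, 1, 0, 0, 0, 0,
    1, 0, 0, 0, 0, 0, 0, 1, 0, 0, 0, 1, 0, 0, 1, 1, 0, 0, 0, 0, 0, 0, 0, 1, 1, 0, 0, 0, 1, 1, 1,
    0, 0, 0, 0, 0, 0, 0, 0, 0, 0, 0, 0, 0, 0, 0, 0, 0, 0, 0, 1, 1, 1]), (.cnj 11 [18, 18] [19,
    21], [0, 0, 0, 0, 1, 0, 0, 0, 0, 1, 1, 1, 1, 0, 0, 0, 1, 0, 0, 0, 0, 1, 0, 1, 1, 0, 0, 1, 0,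
    0, 0, 0, 1, 0, 0, 1, 0, 0, 0, 0, 0, 0, 0, 0, 0, 0, 0, 0, 0, 0, 0, 0, 0, 0, 0, 0, 0, 0, 0, 1,
    1, 0, 0, 0, 0, 0, 0, 1, 1, 1, 0, 0, 0, 0, 0, 0, 0, 0, 0, 0, 0, 0, 0, 0, 0, 1, 0, 0, 0, 1, 0,
    0, 0, 0, 0, 0, 0, 0, 0, 0, 0, 0, 0, 0, 0, 0, 0, 0, 0, 0, 1, 0, 1]), (.cnj 11 [12, 11] [11,
    12], [0, 0, 0, 0, 1, 1, 0, 0, 0, 1, 1, 0, 1, 0, 1, 0, 1, 0, 1, 1, 0, 0, 1, 1, 1, 1, 0, 0, 1,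
    1, 1, 0, 1, 1, 1, 1, 0, 1, 0, 1, 0, 1, 1, 0, 0, 0, 0, 0, 0, 0, 0, 0, 0, 0, 0, 1, 0, 1, 1, 1,
    0, 1, 0, 0, 0, 0, 0, 0, 0, 0, 1, 1, 1, 0, 1, 1, 1, 1, 0, 1, 1, 0, 1, 0, 1, 1, 0, 0, 1, 1, 1,
    0, 0, 0, 0, 0, 0, 0, 0, 0, 0, 0, 0, 0]), (.cnj 11 [14, 11] [11, 14], [0, 0, 0, 0, 1, 1, 0, 0,
    1, 1, 0, 1, 1, 0, 1, 0, 0, 0, 0, 1, 1, 0, 0, 1, 0, 1, 0, 1, 1, 0, 1, 0, 1, 1, 1, 0, 0, 1, 0,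
    1, 0, 1, 1, 1, 0, 0, 0, 0, 0, 0, 0, 0, 0, 0, 0, 1, 0, 1, 1, 0, 1, 1, 1, 0, 0, 0, 0, 1, 1, 1,
    1, 1, 1, 1, 1, 0, 1, 1, 1, 0, 0, 0, 1, 1, 1, 1, 0, 0, 0, 0, 1, 0, 0, 0, 0, 0, 0, 0, 0, 0, 0,
    0, 0, 0, 0, 0])]
  lam := [[], [], [], [], [1], [1, 1, 0, 0, 1], [0, 0, 0, 0, 1, 0, 0, 0, 0, 0, 0, 0, 0, 0, 0, 1], [0, 0, 0,
    0, 1, 1, 0, 0, 0, 0, 0, 0, 0, 0, 0, 0, 0, 0, 0, 0, 0, 0, 0, 0, 0, 0, 1], [0, 0, 0, 0, 1, 0, 0,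
    0, 0, 0, 0, 0, 0, 0, 0, 0, 0, 0, 1], [0, 0, 1, 1, 0, 1, 0, 0, 0, 0, 0, 0, 0, 0, 0, 0, 0, 0,
    1], [0, 0, 0, 0, 1], [0, 0, 1, 0, 0, 1], [0, 0, 1, 0, 1]]
  combos := [[], [], [], [], [], [], [(0, 1), (2, 1), (4, 1), (5, 1), (6, 1), (8, 1), (9, 1), (12, 1), (13,
    1), (17, 1), (18, 1), (20, 1), (26, 1), (30, 1), (32, 1), (35, 1), (39, 1), (40, 1), (43, 1),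
    (44, 1), (47, 1), (49, 1), (50, 1), (51, 1), (54, 1), (55, 1), (56, 1), (57, 1), (62, 1), (63,
    1), (66, 1), (68, 1), (69, 1), (73, 1), (74, 1), (75, 1), (76, 1), (80, 1), (81, 1), (83, 1),
    (84, 1), (85, 1)], [(0, 1), (1, 1), (2, 1), (3, 1), (6, 1), (7, 1), (11, 1), (12, 1), (13, 1),
    (14, 1), (16, 1), (19, 1), (22, 1), (24, 1), (26, 1), (27, 1), (28, 1), (29, 1), (30, 1), (32,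
    1), (34, 1), (36, 1), (37, 1), (42, 1), (44, 1), (45, 1), (48, 1), (58, 1), (60, 1), (61, 1),
    (64, 1), (65, 1), (66, 1), (68, 1), (70, 1), (71, 1), (73, 1), (76, 1), (77, 1), (80, 1), (82,
    1), (83, 1), (86, 1)], [(0, 1), (1, 1), (2, 1), (3, 1), (5, 1), (7, 1), (8, 1), (10, 1), (12,
    1), (15, 1), (17, 1), (24, 1), (28, 1), (29, 1), (30, 1), (31, 1), (32, 1), (35, 1), (39, 1),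
    (42, 1), (44, 1), (46, 1), (48, 1), (55, 1), (56, 1), (58, 1), (60, 1), (61, 1), (62, 1), (63,
    1), (65, 1), (66, 1), (68, 1), (69, 1)], [(5, 1), (8, 1), (9, 1), (10, 1), (11, 1), (12, 1),
    (13, 1), (18, 1), (21, 1), (23, 1), (28, 1), (30, 1), (31, 1), (34, 1), (35, 1), (36, 1), (38,
    1), (40, 1), (42, 1), (43, 1), (44, 1), (48, 1), (49, 1), (50, 1), (52, 1), (54, 1), (56, 1),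
    (57, 1), (64, 1), (65, 1), (66, 1), (67, 1)], [(28, 1), (34, 1), (37, 1), (47, 1), (48, 1)],
    [(5, 1), (18, 1), (21, 1), (23, 1), (24, 1), (25, 1), (34, 1), (37, 1), (38, 1), (40, 1), (41,
    1), (42, 1), (45, 1), (46, 1), (55, 1), (57, 1)], [(0, 1), (1, 1), (2, 1), (6, 1), (9, 1),
    (10, 1), (11, 1), (12, 1), (14, 1), (24, 1), (28, 1), (35, 1), (40, 1), (41, 1), (43, 1), (44,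
    1), (45, 1), (46, 1), (47, 1), (48, 1), (50, 1), (53, 1), (57, 1), (58, 1), (59, 1)], [(0, 1),
    (1, 1), (2, 1), (3, 1), (4, 1), (8, 1), (10, 1), (12, 1), (13, 1), (14, 1), (15, 1), (16, 1),
    (19, 1), (20, 1), (21, 1), (22, 1), (25, 1), (26, 1), (28, 1), (29, 1), (30, 1), (33, 1), (34,
    1), (37, 1), (39, 1), (42, 1), (45, 1), (46, 1), (47, 1), (48, 1), (49, 1), (51, 1), (52, 1),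
    (53, 1), (62, 1), (64, 1), (66, 1), (68, 1), (73, 1), (74, 1), (75, 1), (76, 1), (78, 1), (79,
    1), (82, 1), (83, 1), (84, 1), (86, 1)], [(1, 1), (2, 1), (3, 1), (6, 1), (7, 1), (9, 1), (11,
    1), (14, 1), (15, 1), (16, 1), (17, 1), (19, 1), (24, 1), (26, 1), (27, 1), (28, 1), (33, 1),
    (36, 1), (39, 1), (40, 1), (43, 1), (49, 1), (50, 1), (51, 1), (56, 1), (57, 1), (59, 1), (60,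
    1), (61, 1), (66, 1), (67, 1), (70, 1), (73, 1), (74, 1), (77, 1), (78, 1), (82, 1), (83, 1),
    (84, 1), (85, 1)], [], [(0, 1)], [(1, 1), (2, 1), (3, 1), (7, 1), (8, 1), (9, 1), (11, 1),
    (13, 1), (18, 1), (23, 1), (24, 1), (25, 1), (28, 1), (33, 1), (34, 1), (35, 1), (38, 1), (41,
    1), (42, 1), (45, 1), (47, 1), (49, 1), (50, 1), (51, 1), (52, 1), (53, 1), (54, 1), (56, 1),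
    (57, 1), (58, 1), (59, 1), (60, 1), (61, 1), (63, 1), (64, 1), (69, 1), (79, 1), (82, 1), (83,
    1), (84, 1), (85, 1)], [], [(4, 1), (5, 1), (7, 1), (8, 1), (9, 1), (11, 1), (14, 1), (18, 1),
    (20, 1), (21, 1), (22, 1), (23, 1), (25, 1), (28, 1), (29, 1), (30, 1), (31, 1), (32, 1), (33,
    1), (34, 1), (35, 1), (37, 1), (43, 1), (47, 1), (48, 1), (49, 1), (50, 1), (54, 1), (57, 1),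
    (58, 1), (59, 1), (60, 1), (62, 1), (63, 1), (66, 1), (67, 1), (68, 1), (70, 1), (72, 1), (74,
    1), (75, 1), (76, 1), (78, 1), (82, 1), (83, 1), (84, 1)], [(0, 1), (2, 1), (3, 1), (8, 1),
    (9, 1), (10, 1), (11, 1), (12, 1), (14, 1), (17, 1), (18, 1), (23, 1), (24, 1), (25, 1), (26,
    1), (27, 1), (28, 1), (30, 1), (31, 1), (37, 1), (38, 1), (40, 1), (41, 1), (42, 1), (43, 1),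
    (44, 1), (45, 1), (46, 1), (47, 1), (49, 1), (51, 1), (52, 1), (53, 1), (55, 1), (56, 1), (57,
    1), (58, 1), (59, 1), (60, 1), (65, 1), (66, 1), (73, 1), (74, 1), (75, 1), (76, 1), (81, 1),
    (82, 1), (84, 1), (85, 1), (86, 1)], [(2, 1), (4, 1), (6, 1), (7, 1), (8, 1), (9, 1), (11, 1),
    (13, 1), (19, 1), (20, 1), (21, 1), (22, 1), (27, 1), (29, 1), (31, 1), (33, 1), (35, 1), (36,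
    1), (37, 1), (38, 1), (39, 1), (44, 1), (45, 1), (49, 1), (52, 1), (53, 1), (55, 1), (57, 1),
    (58, 1), (59, 1), (61, 1), (65, 1), (67, 1), (69, 1), (78, 1), (79, 1), (80, 1), (81, 1), (83,
    1), (84, 1), (85, 1), (86, 1)], [(5, 1), (17, 1), (23, 1)], [(11, 1), (12, 1), (14, 1), (24,
    1), (28, 1), (34, 1), (40, 1), (41, 1), (47, 1), (48, 1), (58, 1), (60, 1)], [(5, 1), (11, 1),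
    (12, 1), (14, 1), (17, 1), (24, 1), (40, 1), (58, 1), (60, 1)], [(0, 1), (1, 1), (5, 1), (9,
    1), (11, 1), (13, 1), (14, 1), (15, 1), (17, 1), (18, 1), (19, 1), (21, 1), (22, 1), (23, 1),
    (24, 1), (26, 1), (27, 1), (29, 1), (31, 1), (32, 1), (33, 1), (36, 1), (37, 1), (39, 1), (40,
    1), (41, 1), (43, 1), (45, 1), (46, 1), (54, 1), (55, 1), (57, 1), (58, 1), (62, 1), (66, 1),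
    (69, 1), (71, 1), (73, 1), (75, 1), (78, 1), (79, 1), (86, 1)], [], [(1, 1), (3, 1), (7, 1),
    (8, 1), (9, 1), (12, 1), (18, 1), (24, 1), (25, 1), (33, 1), (35, 1), (38, 1), (42, 1), (45,
    1), (48, 1), (49, 1), (50, 1), (51, 1), (52, 1), (53, 1), (54, 1), (56, 1), (57, 1), (58, 1),
    (59, 1), (60, 1), (61, 1), (63, 1), (64, 1), (69, 1), (79, 1), (82, 1), (83, 1), (84, 1), (85,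
    1)], [(0, 1), (2, 1), (3, 1), (7, 1), (8, 1), (10, 1), (11, 1), (13, 1), (14, 1), (17, 1),
    (21, 1), (23, 1), (33, 1), (40, 1), (41, 1), (43, 1), (44, 1), (45, 1), (48, 1), (49, 1), (51,
    1), (52, 1), (54, 1), (55, 1), (56, 1), (57, 1), (58, 1), (60, 1), (61, 1), (63, 1), (64, 1),
    (69, 1), (79, 1), (82, 1), (83, 1), (84, 1), (85, 1)], [(0, 1), (3, 1), (6, 1), (9, 1), (11,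
    1), (12, 1), (14, 1), (15, 1), (18, 1), (25, 1), (26, 1), (27, 1), (29, 1), (32, 1), (33, 1),
    (34, 1), (35, 1), (36, 1), (37, 1), (38, 1), (43, 1), (45, 1), (46, 1), (47, 1), (51, 1), (52,
    1), (53, 1), (54, 1), (55, 1), (56, 1), (59, 1), (62, 1), (65, 1), (68, 1), (73, 1), (74, 1),
    (75, 1), (76, 1), (79, 1), (81, 1), (83, 1), (85, 1)], [(1, 1), (2, 1), (3, 1), (4, 1), (5,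
    1), (8, 1), (11, 1), (13, 1), (17, 1), (18, 1), (22, 1), (28, 1), (31, 1), (35, 1), (39, 1),
    (43, 1), (46, 1), (47, 1), (49, 1), (50, 1), (60, 1), (62, 1), (63, 1), (64, 1), (65, 1), (69,
    1), (71, 1), (72, 1), (76, 1), (77, 1), (78, 1), (79, 1), (80, 1), (82, 1), (83, 1)], [(0, 1),
    (4, 1), (7, 1), (9, 1), (13, 1), (14, 1), (15, 1), (19, 1), (21, 1), (26, 1), (28, 1), (29,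
    1), (31, 1), (34, 1), (35, 1), (37, 1), (38, 1), (41, 1), (43, 1), (46, 1), (47, 1), (50, 1),
    (51, 1), (52, 1), (54, 1), (55, 1), (56, 1), (58, 1), (59, 1), (60, 1), (63, 1), (65, 1), (73,
    1), (74, 1), (75, 1), (76, 1), (78, 1), (79, 1), (80, 1), (82, 1), (83, 1)], [(0, 1), (4, 1),
    (7, 1), (9, 1), (12, 1), (13, 1), (16, 1), (17, 1), (21, 1), (22, 1), (24, 1), (25, 1), (26,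
    1), (28, 1), (29, 1), (31, 1), (34, 1), (35, 1), (41, 1), (43, 1), (44, 1), (45, 1), (46, 1),
    (49, 1), (51, 1), (54, 1), (55, 1), (59, 1), (60, 1), (61, 1), (63, 1), (64, 1), (73, 1), (74,
    1), (75, 1), (76, 1), (78, 1), (79, 1), (81, 1), (82, 1), (84, 1), (85, 1)], [(5, 1), (6, 1),
    (11, 1), (17, 1), (23, 1), (28, 1), (34, 1), (37, 1), (41, 1), (47, 1), (48, 1)], [(5, 1), (9,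
    1), (10, 1), (13, 1), (14, 1), (18, 1), (21, 1), (23, 1), (25, 1), (35, 1), (38, 1), (42, 1),
    (43, 1), (44, 1), (50, 1), (53, 1), (55, 1), (58, 1), (60, 1)], [(5, 1), (6, 1), (12, 1), (17,
    1), (24, 1), (28, 1), (34, 1), (37, 1), (40, 1), (41, 1), (47, 1), (48, 1), (58, 1), (59, 1),
    (60, 1)], [(1, 1), (4, 1), (5, 1), (8, 1), (9, 1), (10, 1), (13, 1), (17, 1), (22, 1), (24,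
    1), (26, 1), (28, 1), (29, 1), (30, 1), (32, 1), (33, 1), (34, 1), (35, 1), (40, 1), (41, 1),
    (44, 1), (49, 1), (50, 1), (51, 1), (52, 1), (54, 1), (55, 1), (56, 1), (57, 1), (59, 1), (61,
    1), (69, 1), (70, 1), (72, 1), (74, 1), (76, 1), (80, 1), (81, 1), (83, 1), (84, 1), (85, 1)],
    [(3, 1), (6, 1), (7, 1), (8, 1), (10, 1), (13, 1), (14, 1), (15, 1), (21, 1), (24, 1), (25,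
    1), (33, 1), (37, 1), (40, 1), (43, 1), (44, 1), (45, 1), (48, 1), (49, 1), (51, 1), (52, 1),
    (54, 1), (55, 1), (56, 1), (57, 1), (60, 1), (61, 1), (63, 1), (64, 1), (69, 1), (79, 1), (82,
    1), (83, 1), (84, 1), (85, 1)], [(0, 1), (1, 1), (2, 1), (3, 1), (7, 1), (8, 1), (9, 1), (11,
    1), (12, 1), (15, 1), (17, 1), (23, 1), (24, 1), (25, 1), (33, 1), (35, 1), (38, 1), (42, 1),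
    (45, 1), (48, 1), (49, 1), (50, 1), (51, 1), (52, 1), (53, 1), (54, 1), (56, 1), (57, 1), (59,
    1), (61, 1), (63, 1), (64, 1), (69, 1), (79, 1), (82, 1), (83, 1), (84, 1), (85, 1)], [(0, 1),
    (5, 1), (6, 1), (7, 1), (10, 1), (13, 1), (14, 1), (15, 1), (16, 1), (17, 1), (20, 1), (23,
    1), (25, 1), (26, 1), (27, 1), (28, 1), (31, 1), (32, 1), (33, 1), (37, 1), (40, 1), (41, 1),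
    (44, 1), (45, 1), (46, 1), (48, 1), (50, 1), (51, 1), (55, 1), (57, 1), (63, 1), (64, 1), (69,
    1), (73, 1), (74, 1), (75, 1), (76, 1), (79, 1), (80, 1), (81, 1), (82, 1), (85, 1), (86, 1)],
    [(0, 1), (1, 1), (2, 1), (3, 1), (10, 1), (14, 1), (15, 1), (18, 1), (21, 1), (23, 1), (25,
    1), (26, 1), (27, 1), (28, 1), (30, 1), (34, 1), (35, 1), (40, 1), (41, 1), (42, 1), (43, 1),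
    (44, 1), (45, 1), (47, 1), (48, 1), (50, 1), (51, 1), (53, 1), (55, 1), (57, 1), (58, 1), (62,
    1), (64, 1), (66, 1), (67, 1), (69, 1), (70, 1), (71, 1), (73, 1), (76, 1), (77, 1), (81, 1),
    (82, 1), (84, 1), (85, 1), (86, 1)], [(1, 1), (2, 1), (3, 1), (4, 1), (5, 1), (6, 1), (7, 1),
    (8, 1), (9, 1), (10, 1), (11, 1), (12, 1), (18, 1), (21, 1), (26, 1), (28, 1), (30, 1), (32,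
    1), (34, 1), (35, 1), (36, 1), (37, 1), (39, 1), (43, 1), (48, 1), (50, 1), (51, 1), (52, 1),
    (54, 1), (58, 1), (59, 1), (60, 1), (61, 1), (62, 1), (66, 1), (68, 1), (69, 1), (73, 1), (74,
    1), (75, 1), (76, 1), (78, 1), (79, 1), (80, 1), (82, 1), (83, 1)], [(0, 1), (4, 1), (8, 1),
    (9, 1), (10, 1), (11, 1), (12, 1), (13, 1), (14, 1), (16, 1), (18, 1), (19, 1), (20, 1), (22,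
    1), (23, 1), (26, 1), (29, 1), (30, 1), (35, 1), (37, 1), (39, 1), (42, 1), (43, 1), (44, 1),
    (45, 1), (50, 1), (52, 1), (53, 1), (57, 1), (58, 1), (59, 1), (61, 1), (63, 1), (64, 1), (66,
    1), (67, 1), (73, 1), (74, 1), (75, 1), (76, 1), (78, 1), (79, 1), (81, 1), (82, 1), (84, 1),
    (85, 1)], [(5, 1), (18, 1), (24, 1), (25, 1), (28, 1), (34, 1), (41, 1), (47, 1), (48, 1)],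
    [(5, 1), (12, 1), (18, 1), (22, 1), (24, 1), (28, 1), (34, 1), (35, 1), (38, 1), (39, 1), (40,
    1), (41, 1), (42, 1), (43, 1), (44, 1), (47, 1), (48, 1), (50, 1), (53, 1), (55, 1), (56, 1)],
    [(3, 1), (5, 1), (12, 1), (15, 1), (18, 1), (22, 1), (23, 1), (24, 1), (35, 1), (38, 1), (39,
    1), (40, 1), (41, 1), (42, 1), (43, 1), (44, 1), (50, 1), (53, 1), (55, 1), (56, 1), (60, 1)],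
    [(1, 1), (3, 1), (4, 1), (5, 1), (6, 1), (7, 1), (9, 1), (10, 1), (13, 1), (15, 1), (17, 1),
    (18, 1), (20, 1), (24, 1), (26, 1), (27, 1), (28, 1), (29, 1), (31, 1), (34, 1), (37, 1), (40,
    1), (42, 1), (43, 1), (44, 1), (46, 1), (47, 1), (48, 1), (49, 1), (50, 1), (51, 1), (54, 1),
    (57, 1), (58, 1), (60, 1), (61, 1), (65, 1), (73, 1), (74, 1), (75, 1), (76, 1), (80, 1), (81,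
    1), (83, 1), (84, 1), (85, 1)], [(0, 1), (1, 1), (3, 1), (6, 1), (8, 1), (10, 1), (11, 1),
    (12, 1), (13, 1), (14, 1), (15, 1), (16, 1), (17, 1), (18, 1), (19, 1), (20, 1), (21, 1), (23,
    1), (24, 1), (25, 1), (28, 1), (31, 1), (38, 1), (39, 1), (41, 1), (42, 1), (45, 1), (46, 1),
    (49, 1), (50, 1), (53, 1), (55, 1), (57, 1), (58, 1), (59, 1), (62, 1), (65, 1), (67, 1), (68,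
    1), (69, 1), (70, 1), (72, 1), (74, 1), (75, 1), (76, 1), (78, 1), (79, 1), (80, 1), (81, 1),
    (83, 1), (84, 1), (85, 1), (86, 1)], [(0, 1), (1, 1), (9, 1), (11, 1), (15, 1), (17, 1), (19,
    1), (21, 1), (22, 1), (24, 1), (25, 1), (26, 1), (28, 1), (30, 1), (31, 1), (32, 1), (33, 1),
    (34, 1), (36, 1), (37, 1), (39, 1), (40, 1), (44, 1), (46, 1), (49, 1), (50, 1), (54, 1), (56,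
    1), (57, 1), (60, 1), (65, 1), (66, 1), (67, 1), (69, 1), (78, 1), (79, 1), (81, 1), (82, 1),
    (84, 1), (85, 1)], [(0, 1), (1, 1), (2, 1), (6, 1), (7, 1), (13, 1), (18, 1), (21, 1), (26,
    1), (27, 1), (29, 1), (30, 1), (32, 1), (34, 1), (36, 1), (39, 1), (40, 1), (43, 1), (44, 1),
    (45, 1), (46, 1), (49, 1), (50, 1), (52, 1), (53, 1), (54, 1), (55, 1), (58, 1), (59, 1), (60,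
    1), (61, 1), (63, 1), (66, 1), (67, 1), (69, 1), (70, 1), (71, 1), (73, 1), (76, 1), (77, 1),
    (81, 1), (82, 1), (84, 1), (85, 1), (86, 1)], [(11, 1), (12, 1), (14, 1), (17, 1), (18, 1),
    (21, 1), (24, 1), (25, 1), (30, 1), (32, 1), (34, 1), (35, 1), (37, 1), (38, 1), (40, 1), (42,
    1), (44, 1), (58, 1), (60, 1)], [(7, 1), (8, 1), (14, 1), (17, 1), (18, 1), (21, 1), (23, 1),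
    (25, 1), (29, 1), (30, 1), (35, 1), (36, 1), (37, 1), (38, 1), (42, 1), (44, 1), (45, 1), (46,
    1), (49, 1), (50, 1), (56, 1), (58, 1), (60, 1), (65, 1), (67, 1)], [(0, 1), (1, 1), (2, 1),
    (3, 1), (7, 1), (8, 1), (10, 1), (12, 1), (15, 1), (23, 1), (24, 1), (29, 1), (30, 1), (31,
    1), (34, 1), (35, 1), (37, 1), (39, 1), (42, 1), (44, 1), (46, 1), (55, 1), (56, 1), (58, 1),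
    (60, 1), (61, 1), (62, 1), (63, 1), (65, 1), (66, 1), (68, 1), (69, 1)], [(3, 1), (6, 1), (7,
    1), (10, 1), (11, 1), (13, 1), (15, 1), (17, 1), (18, 1), (20, 1), (22, 1), (23, 1), (24, 1),
    (25, 1), (29, 1), (30, 1), (31, 1), (34, 1), (37, 1), (38, 1), (39, 1), (40, 1), (41, 1), (50,
    1), (52, 1), (54, 1), (58, 1), (59, 1), (61, 1), (63, 1), (65, 1), (66, 1), (67, 1), (69, 1)],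
    [(0, 1), (1, 1), (2, 1), (5, 1), (6, 1), (7, 1), (8, 1), (9, 1), (10, 1), (12, 1), (17, 1),
    (20, 1), (21, 1), (22, 1), (23, 1), (24, 1), (25, 1), (29, 1), (30, 1), (31, 1), (34, 1), (40,
    1), (43, 1), (44, 1), (45, 1), (50, 1), (51, 1), (53, 1), (57, 1), (59, 1), (60, 1), (62, 1),
    (64, 1), (66, 1), (68, 1)], [(17, 1), (24, 1), (25, 1), (28, 1), (34, 1), (37, 1), (41, 1),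
    (47, 1), (48, 1)], [(1, 1), (7, 1), (9, 1), (11, 1), (14, 1), (15, 1), (17, 1), (18, 1), (23,
    1), (25, 1), (26, 1), (27, 1), (28, 1), (29, 1), (32, 1), (34, 1), (35, 1), (37, 1), (38, 1),
    (39, 1), (40, 1), (41, 1), (43, 1), (44, 1), (45, 1), (48, 1), (49, 1), (51, 1), (52, 1), (53,
    1), (57, 1), (59, 1), (61, 1), (62, 1), (63, 1), (68, 1), (69, 1), (73, 1), (74, 1), (75, 1),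
    (76, 1), (81, 1), (82, 1), (84, 1), (85, 1), (86, 1)], [(1, 1), (2, 1), (4, 1), (6, 1), (9,
    1), (10, 1), (11, 1), (12, 1), (14, 1), (15, 1), (17, 1), (18, 1), (19, 1), (20, 1), (21, 1),
    (22, 1), (24, 1), (26, 1), (30, 1), (32, 1), (33, 1), (40, 1), (45, 1), (48, 1), (49, 1), (51,
    1), (54, 1), (55, 1), (56, 1), (57, 1), (58, 1), (62, 1), (63, 1), (64, 1), (66, 1), (68, 1),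
    (73, 1), (74, 1), (75, 1), (76, 1), (78, 1), (79, 1), (80, 1), (82, 1), (83, 1)], [(5, 1),
    (17, 1), (38, 1), (44, 1)], [(5, 1), (11, 1), (12, 1), (14, 1), (17, 1), (24, 1), (28, 1),
    (34, 1), (37, 1), (38, 1), (39, 1), (40, 1), (41, 1), (44, 1), (47, 1), (48, 1), (55, 1), (58,
    1), (60, 1)], [(37, 1)], [(37, 1), (40, 1)], [(12, 1), (13, 1), (24, 1), (25, 1), (37, 1),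
    (40, 1)], [(2, 1), (3, 1), (4, 1), (8, 1), (9, 1), (10, 1), (15, 1), (17, 1), (18, 1), (19,
    1), (21, 1), (23, 1), (25, 1), (27, 1), (29, 1), (30, 1), (34, 1), (36, 1), (37, 1), (41, 1),
    (44, 1), (49, 1), (50, 1), (53, 1), (54, 1), (55, 1), (63, 1), (66, 1), (78, 1), (79, 1), (80,
    1), (81, 1), (83, 1), (84, 1), (85, 1), (86, 1)], [(1, 1), (2, 1), (3, 1), (4, 1), (5, 1), (6,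
    1), (7, 1), (11, 1), (13, 1), (14, 1), (15, 1), (16, 1), (20, 1), (23, 1), (26, 1), (28, 1),
    (29, 1), (30, 1), (33, 1), (35, 1), (36, 1), (37, 1), (39, 1), (41, 1), (42, 1), (49, 1), (50,
    1), (55, 1), (56, 1), (59, 1), (60, 1), (66, 1), (67, 1), (69, 1), (73, 1), (74, 1), (75, 1),
    (76, 1), (78, 1), (79, 1), (81, 1), (82, 1), (84, 1), (85, 1)], [(11, 1), (12, 1), (14, 1),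
    (17, 1), (18, 1), (21, 1), (24, 1), (25, 1), (37, 1), (38, 1), (40, 1), (46, 1), (58, 1), (60,
    1)], [(11, 1), (23, 1), (24, 1), (28, 1), (34, 1), (35, 1), (37, 1), (40, 1), (41, 1), (42,
    1), (43, 1), (45, 1), (46, 1), (47, 1), (48, 1), (50, 1), (53, 1), (56, 1)], [(23, 1), (37,
    1)], [(24, 1), (37, 1), (40, 1), (46, 1)], [(11, 1), (12, 1), (13, 1), (23, 1), (24, 1), (40,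
    1), (46, 1)], [(0, 1), (1, 1), (2, 1), (5, 1), (6, 1), (7, 1), (13, 1), (17, 1), (20, 1), (21,
    1), (22, 1), (24, 1), (28, 1), (29, 1), (31, 1), (33, 1), (34, 1), (35, 1), (36, 1), (37, 1),
    (45, 1), (46, 1), (47, 1), (48, 1), (49, 1), (50, 1), (52, 1), (53, 1), (54, 1), (55, 1), (59,
    1), (60, 1), (62, 1), (65, 1), (68, 1)], [(0, 1), (1, 1), (2, 1), (3, 1), (7, 1), (8, 1), (10,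
    1), (12, 1), (15, 1), (24, 1), (29, 1), (30, 1), (31, 1), (32, 1), (35, 1), (39, 1), (42, 1),
    (46, 1), (55, 1), (56, 1), (58, 1), (60, 1), (61, 1), (62, 1), (63, 1), (65, 1), (66, 1), (68,
    1), (69, 1)], [(0, 1), (1, 1), (2, 1), (6, 1), (8, 1), (11, 1), (12, 1), (13, 1), (17, 1),
    (18, 1), (20, 1), (22, 1), (23, 1), (24, 1), (25, 1), (33, 1), (34, 1), (38, 1), (41, 1), (42,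
    1), (44, 1), (45, 1), (46, 1), (50, 1), (52, 1), (54, 1), (55, 1), (56, 1), (59, 1), (60, 1),
    (62, 1), (67, 1), (68, 1)], [(34, 1)], [(35, 1), (46, 1)], [(11, 1), (23, 1), (36, 1), (37,
    1), (46, 1)], [(3, 1), (6, 1), (7, 1), (10, 1), (11, 1), (13, 1), (15, 1), (17, 1), (18, 1),
    (20, 1), (22, 1), (23, 1), (25, 1), (29, 1), (30, 1), (31, 1), (32, 1), (33, 1), (35, 1), (38,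
    1), (39, 1), (41, 1), (44, 1), (45, 1), (49, 1), (50, 1), (52, 1), (53, 1), (54, 1), (58, 1),
    (59, 1), (61, 1), (63, 1), (65, 1), (66, 1), (67, 1), (69, 1)], [(0, 1), (1, 1), (2, 1), (5,
    1), (6, 1), (9, 1), (10, 1), (17, 1), (20, 1), (21, 1), (22, 1), (23, 1), (24, 1), (25, 1),
    (30, 1), (31, 1), (33, 1), (34, 1), (35, 1), (36, 1), (40, 1), (43, 1), (45, 1), (46, 1), (51,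
    1), (55, 1), (57, 1), (59, 1), (60, 1), (62, 1), (64, 1), (65, 1), (66, 1), (68, 1)], [(5, 1),
    (18, 1), (21, 1), (23, 1), (25, 1), (28, 1), (34, 1), (35, 1), (37, 1), (38, 1), (41, 1), (42,
    1), (44, 1), (46, 1), (47, 1), (48, 1), (50, 1), (53, 1)], [(24, 1), (37, 1), (40, 1), (44,
    1), (45, 1), (53, 1), (54, 1), (55, 1)], [(5, 1), (8, 1), (9, 1), (11, 1), (12, 1), (18, 1),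
    (21, 1), (38, 1), (40, 1), (41, 1), (44, 1), (45, 1), (46, 1), (51, 1), (52, 1), (53, 1), (54,
    1), (57, 1), (64, 1), (65, 1)], [(5, 1), (18, 1), (21, 1), (24, 1), (25, 1), (28, 1), (34, 1),
    (35, 1), (37, 1), (38, 1), (40, 1), (41, 1), (42, 1), (44, 1), (45, 1), (46, 1), (47, 1), (48,
    1), (50, 1)], [(23, 1), (37, 1), (44, 1)], [(5, 1), (18, 1), (21, 1), (25, 1), (28, 1), (38,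
    1), (41, 1), (42, 1), (46, 1), (47, 1), (48, 1)], [(6, 1), (9, 1), (12, 1), (28, 1), (37, 1),
    (41, 1), (42, 1), (44, 1), (46, 1), (47, 1), (48, 1)], [(23, 1), (24, 1), (40, 1), (45, 1)],
    [(5, 1), (18, 1), (21, 1), (25, 1), (28, 1), (38, 1), (41, 1), (42, 1), (47, 1), (48, 1), (55,
    1)], [(6, 1), (9, 1), (11, 1), (12, 1), (23, 1), (28, 1), (41, 1), (42, 1), (44, 1), (47, 1),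
    (48, 1), (56, 1)], [(46, 1)], [(11, 1), (23, 1), (37, 1), (46, 1)], [(12, 1), (24, 1), (37,
    1), (40, 1)]]

/-- transversal levels of the Sylow subgroup at `2` on vectors -/
def levels2 : List (ℕ × List (List ℕ)) :=
  [(14373378, [[], [11], [7], [3], [4], [4, 11], [4, 7], [1, 2], [2], [0], [1], [2, 3], [2, 4], [0,
    4], [2, 4, 7], [1, 4]]), (9463497, [[], [8, 11], [3, 7], [3, 7, 8, 11], [1, 2, 4, 7], [0, 2,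
    4], [1, 2, 3, 4], [1, 2, 3, 4, 8, 11]]), (328205, [[], [10, 11], [9], [9, 10, 11], [6, 7, 11],
    [6, 7, 10], [6, 7, 9, 11], [6, 7, 9, 10], [5, 8], [5, 8, 10, 11], [5, 8, 9], [5, 8, 9, 10,
    11], [5, 6, 7, 8, 11], [5, 6, 7, 8, 10], [5, 6, 7, 8, 9, 11], [5, 6, 7, 8, 9, 10]]), (270605,
    [[], [12]]), (1, [[], [0, 1, 4, 5, 7, 10]])]

/-- words for the elements at `3` -/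
def words3 : List (List ℕ) :=
  [[4, 0, 1, 0, 1, 2, 3, 1, 2, 3, 4, 1, 2, 3, 2, 0], [1, 2, 3, 1, 2, 3, 4, 3, 1, 2, 3, 0, 1, 0, 1,
    2, 3, 1, 2, 3, 3, 3], [0, 1, 2, 3, 4, 2, 3, 0, 1, 0, 1, 2, 3, 4, 1, 2, 3, 0, 1, 2, 3, 3], [4,
    1, 2, 3, 2, 3, 4, 1, 2, 3, 0, 1, 2, 3, 4, 0, 1, 2, 3, 0, 1, 2, 3, 4, 2, 1]]

/-- a conjugator at `3` -/
def conj3_0 : List ℕ :=
  [64, 128, 65536, 131072, 16384, 32768, 1, 2, 1048576, 2097152, 4194304, 8388608]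

/-- the certificate at `3` -/
def cert3 : Cert (List ℕ) where
  n := 3
  σ := [[4460852, 9052696, 5243077, 11010122, 6318088, 3159044, 3855, 10528005, 4395332, 8463016,
    6029317, 10748042], [13115973, 4463368, 14041226, 6490183, 1657898, 11273239, 10049090,
    4620545, 992009, 2429356, 14811464, 5441676], [12849810, 4197217, 14262305, 7133200, 14041226,
    6490183, 2382978, 11568193, 4178947, 1403561, 170560, 257920]]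
  rules := [([0, 0, 0], []), ([1, 1, 1], []), ([2, 2, 2], []), ([1, 0], [0, 1, 2, 2]), ([2, 0], [0, 2]), ([2,
    1], [1, 2])]
  conjs := [(conj3_0, [1], [1, 1, 2, 2]), (conj3_0, [0], [0, 0, 2, 2]), (conj3_0, [2, 2], [2, 2])]
  rows := [(.ovl [1, 1] 3 [], [0, 0, 1, 0, 0, 0]), (.cnj 0 [0, 0, 0] [], [0, 1, 2, 0, 0, 0, 0]), (.cnj 0 [1,
    1, 1] [], [1, 0, 2, 0, 0, 0, 0, 0]), (.cnj 0 [2, 0] [0, 2], [0, 0, 0, 0, 0, 2, 0, 0, 0]),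
    (.cnj 0 [2, 1] [1, 2], [0, 0, 0, 0, 2, 0, 0, 0, 0])]
  lam := [[], [], [0, 0, 0, 2]]
  combos := [[(0, 2), (2, 2)], [(0, 2), (1, 2)], [(0, 2)], [], [(4, 1)], [(3, 1)]]

/-- words for the elements at `5` -/
def words5 : List (List ℕ) :=
  [[3, 2, 3, 1, 0, 1, 2, 3, 4, 2, 3, 1, 0, 1, 2, 3, 4, 2, 3, 3], [1, 0, 1, 2, 3, 4, 3, 1, 2, 3, 2,
    1, 0, 1, 2, 3, 4, 1, 2, 3, 2, 3, 1, 0, 1, 3, 3], [4, 3, 2, 3, 4, 1, 2, 3, 0, 1, 0, 1, 2, 3, 4,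
    2, 3, 1, 2, 0, 1, 3, 3], [1, 2, 3, 0, 1, 2, 3, 0, 1, 2, 0, 1]]

/-- a conjugator at `5` -/
def conj5_0 : List ℕ :=
  [3221676, 1097428, 1116269, 2133142, 15208822, 5638169, 3932161, 1311362, 6342882, 3687547,
    5298272, 2122936]

/-- a conjugator at `5` -/
def conj5_1 : List ℕ :=
  [6293921, 1049842, 2228484, 1245192, 1212432, 2211840, 5767242, 10747919, 98820, 148224, 301078,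
    543777]

/-- the certificate at `5` -/
def cert5 : Cert (List ℕ) where
  n := 2
  σ := [[3048468, 3491968, 5007648, 308912, 4887120, 8774400, 10298405, 6557848, 2992132, 3570816,
    11780099, 13722153], [11670604, 5481092, 2130418, 1753171, 13713578, 6293719, 2841666,
    11895841, 1640494, 2919447, 8979271, 15081737]]
  rules := [([0, 0, 0, 0, 0], []), ([1, 1, 1, 1, 1], []), ([1, 0], [0, 1])]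
  conjs := [(conj5_0, [1], [0, 0]), (conj5_0, [0], [0, 1, 1]), (conj5_1, [1], [1]), (conj5_1, [0], [0, 0, 0,
    0, 1, 1, 1])]
  rows := [(.cnj 0 [0, 0, 0, 0, 0] [], [2, 4, 0, 0]), (.cnj 0 [1, 1, 1, 1, 1] [], [0, 2, 0, 0, 0]), (.cnj 2
    [3, 2] [2, 3], [0, 0, 2, 0, 0, 0, 0])]
  lam := [[], []]
  combos := [[(0, 2), (1, 1)], [(1, 2)], [(2, 2)]]

/-- two words in the sequence at `2` whose commutator is the sign -/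
def commPair : List ℕ × List ℕ := ([4, 6, 8, 9, 10, 11], [0, 1, 4, 5, 10, 11, 12])

/-- a word for the sign -/
def negWord : List ℕ := [3, 3]

end CfsgLib.KnownB.G2FourMult
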