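import Cfsg.Agent.Lib.KnownB.Mult.Levels
import Cfsg.Agent.Lib.KnownB.G2FourMult.Data

/-!
The double cover of the group of type G2 over four elements as matrices of degree twelve over three
elements, with codes by packed columns.
-/

set_option autoImplicit false
set_option maxRecDepth 100000

namespace CfsgLib.KnownB.G2FourMult

open CfsgLib.KnownB.Mult Matrix
open scoped MatrixGroups

/-- bits of one mask not in the other -/
def andN (a b : ℕ) : ℕ := a ^^^ (a &&& b)

/-- positive mask of a sum -/
def addPos (p n P N : ℕ) : ℕ := andN p (P ||| N) ||| andN P (p ||| n) ||| (n &&& N)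

/-- negative mask of a sum -/
def addNeg (p n P N : ℕ) : ℕ := andN n (P ||| N) ||| andN N (p ||| n) ||| (p &&& P)

/-- the two masks together -/
def pack (p n : ℕ) : ℕ := p + 4096 * n

/-- sum of packed vectors -/
def addP (x y : ℕ) : ℕ :=
  pack (addPos (x % 4096) (x / 4096) (y % 4096) (y / 4096))
    (addNeg (x % 4096) (x / 4096) (y % 4096) (y / 4096))

/-- negative of a packed vector -/
def negP (x : ℕ) : ℕ := pack (x / 4096) (x % 4096)

/-- combination of columns with coefficients given by two masks -/
def appA : List ℕ → ℕ → ℕ → ℕ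
  | [], _, _ => 0
  | c :: cs, p, n =>
    bif Nat.beq (p % 2) 1 then addP c (appA cs (p / 2) (n / 2))
    else bif Nat.beq (n % 2) 1 then addP (negP c) (appA cs (p / 2) (n / 2))
    else appA cs (p / 2) (n / 2)

/-- image of a packed vector -/
def app (X : List ℕ) (v : ℕ) : ℕ := appA X (v % 4096) (v / 4096)

/-- product -/
def mulC (X Y : List ℕ) : List ℕ := Y.map (app X)

/-- masks of a list -/
def posL : List (ZMod 3) → ℕ
  | [] => 0
  | a :: l => Nat.bit (decide (a = 1)) (posL l)

/-- masks of a list -/
def negL : List (ZMod 3) → ℕ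
  | [] => 0
  | a :: l => Nat.bit (decide (a = 2)) (negL l)

theorem mask_lt : ∀ l : List (ZMod 3), posL l < 2 ^ l.length ∧ negL l < 2 ^ l.length
  | [] => by simp [posL, negL]
  | a :: l => by
    obtain ⟨h1, h2⟩ := mask_lt l
    simp only [posL, negL, List.length_cons, pow_succ, Nat.bit_val]
    constructor
    · cases decide (a = 1) <;> simp <;> omega
    · cases decide (a = 2) <;> simp <;> omega

theorem testBit_mask : ∀ (l : List (ZMod 3)) (i : ℕ) (hi : i < l.length),
    (posL l).testBit i = decide (l[i] = 1) ∧ (negL l).testBit i = decide (l[i] = 2)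
  | a :: l, 0, _ => by simp [posL, negL, Nat.testBit_bit_zero]
  | a :: l, i + 1, hi => by
    simp only [posL, negL, Nat.testBit_bit_succ, List.getElem_cons_succ]
    exact testBit_mask l i (by simpa using hi)

theorem mask_add : ∀ (k : ℕ) (u v : Fin k → ZMod 3),
    addPos (posL (List.ofFn u)) (negL (List.ofFn u)) (posL (List.ofFn v)) (negL (List.ofFn v)) =
        posL (List.ofFn (u + v)) ∧
      addNeg (posL (List.ofFn u)) (negL (List.ofFn u)) (posL (List.ofFn v)) (negL (List.ofFn v)) =
        negL (List.ofFn (u + v))
  | 0, u, v => by simp [posL, negL, addPos, addNeg, andN]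
  | k + 1, u, v => by
    have hk := mask_add k (fun i => u i.succ) (fun i => v i.succ)
    simp only [addPos, addNeg, andN] at hk
    have key : ∀ a b : ZMod 3,
        ((xor (decide (a = 1)) (decide (a = 1) && (decide (b = 1) || decide (b = 2))) ||
            xor (decide (b = 1)) (decide (b = 1) && (decide (a = 1) || decide (a = 2)))) ||
            (decide (a = 2) && decide (b = 2))) = decide (a + b = 1) ∧
        ((xor (decide (a = 2)) (decide (a = 2) && (decide (b = 1) || decide (b = 2))) ||
            xor (decide (b = 2)) (decide (b = 2) && (decide (a = 1) || decide (a = 2)))) ||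
            (decide (a = 1) && decide (b = 1))) = decide (a + b = 2) := by decide
    simp only [List.ofFn_succ, posL, negL, addPos, addNeg, andN, Nat.land_bit, Nat.lor_bit,
      Nat.xor_bit, hk.1, hk.2]
    exact ⟨congrArg₂ Nat.bit (key (u 0) (v 0)).1 rfl, congrArg₂ Nat.bit (key (u 0) (v 0)).2 rfl⟩

/-- vectors -/
abbrev Vec : Type := Fin 12 → ZMod 3

/-- the packed form of a vector -/
def encV (v : Vec) : ℕ := pack (posL (List.ofFn v)) (negL (List.ofFn v))

/-- an entry of a packed vector -/
def dec (x : ℕ) : Vec := fun i =>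
  bif (x % 4096).testBit i then 1 else bif (x / 4096).testBit i then 2 else 0

theorem encV_parts (v : Vec) :
    encV v % 4096 = posL (List.ofFn v) ∧ encV v / 4096 = negL (List.ofFn v) := by
  have h : posL (List.ofFn v) < 4096 := by simpa using (mask_lt (List.ofFn v)).1
  constructor <;> unfold encV pack <;> omega

theorem dec_encV (v : Vec) : dec (encV v) = v := by
  funext i
  obtain ⟨h1, h2⟩ := testBit_mask (List.ofFn v) i.val (by simp)
  rw [dec, (encV_parts v).1, (encV_parts v).2, h1, h2]
  simp only [List.getElem_ofFn, Fin.eta]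
  revert i
  intro i _ _
  generalize v i = a
  revert a
  decide

theorem encV_inj {u v : Vec} (h : encV u = encV v) : u = v := by
  rw [← dec_encV u, h, dec_encV]

theorem addP_encV (u v : Vec) : addP (encV u) (encV v) = encV (u + v) := by
  rw [addP, (encV_parts u).1, (encV_parts u).2, (encV_parts v).1, (encV_parts v).2,
    (mask_add 12 u v).1, (mask_add 12 u v).2]
  rfl

theorem mask_neg : ∀ l : List (ZMod 3), posL (l.map Neg.neg) = negL l ∧ negL (l.map Neg.neg) = posL l
  | [] => by simp [posL, negL]
  | a :: l => by
    have key : ∀ a : ZMod 3, decide (-a = 1) = decide (a = 2) ∧ decide (-a = 2) = decide (a = 1) := by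
      decide
    simp only [List.map_cons, posL, negL, (key a).1, (key a).2, (mask_neg l).1, (mask_neg l).2,
      and_self]

theorem negP_encV (u : Vec) : negP (encV u) = encV (-u) := by
  rw [negP, (encV_parts u).1, (encV_parts u).2, encV,
    show List.ofFn (-u) = (List.ofFn u).map Neg.neg by rw [List.map_ofFn]; rfl,
    (mask_neg _).1, (mask_neg _).2]

theorem encV_zero : encV 0 = 0 := by decide +kernel

theorem appA_encV : ∀ (k : ℕ) (a : Fin k → ZMod 3) (f : Fin k → Vec),
    appA (List.ofFn fun i => encV (f i)) (posL (List.ofFn a)) (negL (List.ofFn a)) =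
      encV (∑ i, a i • f i)
  | 0, a, f => by simp [appA, encV_zero]
  | k + 1, a, f => by
    have ih := appA_encV k (fun i => a i.succ) (fun i => f i.succ)
    have key : ∀ x : ZMod 3, x = 0 ∨ x = 1 ∨ x = 2 := by decide
    rw [List.ofFn_succ, List.ofFn_succ, Fin.sum_univ_succ, posL, negL, appA, Nat.bit_div_two,
      Nat.bit_div_two, Nat.bit_mod_two, Nat.bit_mod_two, ih]
    have b0 : Nat.beq 0 1 = false := rfl
    have b1 : Nat.beq 1 1 = true := rfl
    have h0 : ¬ (0 : ZMod 3) = 1 ∧ ¬ (0 : ZMod 3) = 2 ∧ ¬ (2 : ZMod 3) = 1 := by decide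
    rcases key (a 0) with h | h | h
    · simp [h, h0.1, h0.2.1, b0, b1]
    · simp [h, addP_encV, b0, b1]
    · have e : ((2 : ZMod 3) • f 0) = -f 0 := by
        funext i
        show (2 : ZMod 3) * f 0 i = -(f 0 i)
        generalize f 0 i = x
        revert x
        decide
      simp [h, h0.2.2, e, addP_encV, negP_encV, b0, b1]

/-- square matrices of degree twelve -/
abbrev M12 : Type := Matrix (Fin 12) (Fin 12) (ZMod 3)

/-- packed columns -/
def colsOf (M : M12) : List ℕ := List.ofFn fun j => encV fun i => M i j

theorem app_colsOf (M : M12) (v : Vec) : app (colsOf M) (encV v) = encV (M *ᵥ v) := by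
  rw [app, (encV_parts v).1, (encV_parts v).2, colsOf, appA_encV]
  congr 1
  funext i
  simp [Matrix.mulVec, dotProduct, Finset.sum_apply, mul_comm]

theorem colsOf_mul (M N : M12) : mulC (colsOf M) (colsOf N) = colsOf (M * N) := by
  rw [mulC, colsOf, colsOf, List.map_ofFn]
  refine congrArg List.ofFn (funext fun j => ?_)
  show app (colsOf M) _ = _
  rw [app_colsOf]
  rfl

theorem colsOf_inj {M N : M12} (h : colsOf M = colsOf N) : M = N := by
  ext i j
  exact congrFun (encV_inj (congrFun (List.ofFn_injective h) j)) i

/-- identity columns -/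
def oneC : List ℕ := [1, 2, 4, 8, 16, 32, 64, 128, 256, 512, 1024, 2048]

/-- the columns of minus the identity -/
def negC : List ℕ := oneC.map (· * 4096)

theorem colsOf_one : colsOf 1 = oneC := by decide +kernel

theorem colsOf_neg : colsOf (-1) = negC := by decide +kernel

/-- the matrix of a generator -/
def genM (k : Fin 6) : M12 := Matrix.of fun i j => dec ((genTab.getD k.val []).getD j.val 0) i

theorem genM_cols : ∀ k : Fin 6, colsOf (genM k) = genTab.getD k.val [] := by decide +kernel

theorem genTab_four : ∀ k : Fin 6,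
    (let X := genTab.getD k.val []; mulC X (mulC X (mulC X X))) = oneC := by decide +kernel

theorem genM_four (k : Fin 6) : genM k * (genM k * (genM k * genM k)) = 1 :=
  colsOf_inj (by
    rw [← colsOf_mul, ← colsOf_mul, ← colsOf_mul, genM_cols, colsOf_one]
    exact genTab_four k)

/-- a generator as an invertible matrix -/
def genU (k : Fin 6) : GL (Fin 12) (ZMod 3) :=
  ⟨genM k, genM k * (genM k * genM k), genM_four k,
    (by rw [mul_assoc, mul_assoc]; exact genM_four k)⟩

/-- the group -/
def Cov : Subgroup (GL (Fin 12) (ZMod 3)) := Subgroup.closure (Set.range genU)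

/-- the code of an element -/
def Rep (g : Cov) (x : List ℕ) : Prop := colsOf ((g : GL (Fin 12) (ZMod 3)) : M12) = x

theorem Rep.mul {g h : Cov} {x y : List ℕ} (hg : Rep g x) (hh : Rep h y) :
    Rep (g * h) (mulC x y) := by
  rw [← hg, ← hh, colsOf_mul]
  rfl

theorem rep_one : Rep 1 oneC := colsOf_one

theorem eqW_rep {g h : Cov} {x y : List ℕ} (hg : Rep g x) (hh : Rep h y) :
    eqW x y = true ↔ g = h := by
  rw [eqW_iff, ← hg, ← hh]
  refine ⟨fun e => Subtype.ext (Units.ext (colsOf_inj e)), fun e => e ▸ rfl⟩

/-- a generator -/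
def gen (k : Fin 6) : Cov := ⟨genU k, Subgroup.subset_closure ⟨k, rfl⟩⟩

/-- code of a generator -/
def genC (k : ℕ) : List ℕ := bif Nat.blt k 6 then genTab.getD k [] else oneC

theorem rep_gen (k : Fin 6) : Rep (gen k) (genC k.val) := by
  rw [genC, show Nat.blt k.val 6 = true by rw [Nat.blt_eq]; exact k.isLt]
  exact genM_cols k

/-- the code of a word -/
def evC : List ℕ → List ℕ
  | [] => oneC
  | k :: w => mulC (genC k) (evC w)

/-- the element of a word -/
def wordEl : List ℕ → Cov
  | [] => 1
  | k :: w => (if h : k < 6 then gen ⟨k, h⟩ else 1) * wordEl w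

theorem rep_wordEl : ∀ w : List ℕ, Rep (wordEl w) (evC w)
  | [] => rep_one
  | k :: w => by
    rw [wordEl, evC]
    refine Rep.mul ?_ (rep_wordEl w)
    split
    · next h => exact rep_gen ⟨k, h⟩
    · next h =>
      rw [genC, show Nat.blt k 6 = false by rw [← Bool.not_eq_true, Nat.blt_eq]; exact h]
      exact rep_one

/-- codes, with membership given by a table of words and their values -/
def code (ws : List (List ℕ)) (tab : List (List ℕ)) (h : tab = ws.map evC) :
    Mult.Code Cov (List ℕ) where
  rep := Rep
  mul := mulC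
  one := oneC
  eqc := eqW
  okc x := tab.any (eqW x)
  rep_mul := Rep.mul
  rep_one := rep_one
  eq_iff := eqW_rep
  exists_rep {x} hx := by
    obtain ⟨y, hy, e⟩ := List.any_eq_true.1 hx
    rw [eqW_iff] at e
    rw [h] at hy
    obtain ⟨w, -, rfl⟩ := List.mem_map.1 hy
    exact ⟨wordEl w, e ▸ rep_wordEl w⟩

/-- a packed vector in normal form -/
def validV (v : ℕ) : Bool := Nat.beq (encV (dec v)) v

/-- a code applied to any number -/
def appP (x : List ℕ) (v : ℕ) : ℕ := bif validV v then app x v else v

theorem validV_encV (u : Vec) : validV (encV u) = true := by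
  rw [validV, dec_encV, Nat.beq_eq]

/-- the action on packed vectors -/
def ptAct : PtAct Cov ℕ where
  act g v := if validV v = true then encV (((g : GL (Fin 12) (ZMod 3)) : M12) *ᵥ dec v) else v
  act_mul g h v := by
    by_cases hv : validV v = true
    · simp only [if_pos hv, if_pos (validV_encV _), dec_encV, mulVec_mulVec]
      rfl
    · simp only [if_neg hv]
  act_one v := by
    by_cases hv : validV v = true
    · rw [if_pos hv]
      show encV ((1 : M12) *ᵥ dec v) = v
      rw [one_mulVec]
      exact Nat.eq_of_beq_eq_true hv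
    · rw [if_neg hv]

theorem ptAct_app {g : Cov} {x : List ℕ} (hx : Rep g x) (v : ℕ) :
    ptAct.act g v = appP x v := by
  by_cases hv : validV v = true
  · show ite _ _ _ = _
    rw [if_pos hv, appP, hv, cond_true, ← hx, ← app_colsOf]
    exact congrArg _ (Nat.eq_of_beq_eq_true hv)
  · show ite _ _ _ = _
    rw [if_neg hv, appP, (Bool.not_eq_true _).mp hv, cond_false]

end CfsgLib.KnownB.G2FourMult
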