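import Cfsg.Agent.Lib.KnownB.G2FourMult.Certs
import Cfsg.Agent.Lib.Spor.Suz.G2Four

/-!
The quotient of the matrix group by its signs is the group of type G2 over four elements: it satisfies
the relators of six letters of the presented Suzuki group, whose subgroup on those letters has the
order and isomorphism type of that group.
-/

set_option autoImplicit false
set_option maxRecDepth 100000

namespace CfsgLib.KnownB.G2FourMult

open CfsgLib.PresCert Cfsg.Spor CfsgLib.Spor.Suz
open CfsgLib.KnownB.Mult (eqW eqW_iff)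

/-- the element minus one -/
def negE : Cov := wordEl negWord

theorem rep_negE : Rep negE negC := negWord_check ▸ rep_wordEl negWord

theorem negE_mat : ((negE : GL (Fin 12) (ZMod 3)) : M12) = -1 :=
  colsOf_inj (rep_negE.trans colsOf_neg.symm)

theorem negE_central (g : Cov) : g * negE = negE * g := by
  refine Subtype.ext (Units.ext ?_)
  show ((g : GL (Fin 12) (ZMod 3)) : M12) * ((negE : GL (Fin 12) (ZMod 3)) : M12) = _ * _
  rw [negE_mat, mul_neg, neg_mul, mul_one, one_mul]

theorem negE_sq : negE * negE = 1 := by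
  refine Subtype.ext (Units.ext ?_)
  show ((negE : GL (Fin 12) (ZMod 3)) : M12) * ((negE : GL (Fin 12) (ZMod 3)) : M12) = 1
  rw [negE_mat, neg_mul, one_mul, neg_neg]

theorem negE_ne_one : negE ≠ 1 := fun h => by
  have := (eqW_rep rep_negE rep_one).2 h
  revert this
  decide +kernel

/-- the subgroup of signs -/
def signs : Subgroup Cov := Subgroup.zpowers negE

theorem signs_le_center : signs ≤ Subgroup.center Cov :=
  Subgroup.zpowers_le.2 (Subgroup.mem_center_iff.2 negE_central)

instance : signs.Normal := ⟨fun n hn g => by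
  have := Subgroup.mem_center_iff.1 (signs_le_center hn) g
  rw [this, mul_inv_cancel_right]; exact hn⟩

theorem orderOf_negE : orderOf negE = 2 :=
  orderOf_eq_prime (by rw [pow_two, negE_sq]) negE_ne_one

theorem card_signs : Nat.card signs = 2 := by rw [signs, Nat.card_zpowers, orderOf_negE]

theorem signs_cases {g : Cov} (h : g ∈ signs) : g = 1 ∨ g = negE := by
  obtain ⟨m, rfl⟩ := Subgroup.mem_zpowers_iff.1 h
  have e : negE ^ m = negE ^ (m % 2) := by
    rw [← zpow_mod_orderOf, orderOf_negE]
    rfl
  rw [e]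
  rcases Int.emod_two_eq_zero_or_one m with h | h <;> simp [h]

/-- the quotient by the signs -/
abbrev Q : Type := Cov ⧸ signs

/-- the generator of a letter -/
def letQ (x : Suz.Gen) : Q :=
  if h : idx x < 6 then QuotientGroup.mk (gen ⟨idx x, h⟩) else 1

theorem prod_letQ : ∀ w : List Suz.Gen,
    (w.map letQ).prod = ((wordEl (w.map idx) : Cov) : Q)
  | [] => by simp [wordEl]
  | x :: w => by
    rw [List.map_cons, List.prod_cons, prod_letQ w, List.map_cons, wordEl, QuotientGroup.mk_mul,
      letQ]
    split <;> simp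

/-- the relators without the letter `g` -/
def known6 : List (List Suz.Gen) := known.filter fun w => !w.contains .g

/-- the squares of the letters -/
def squares : List (List Suz.Gen) := [[.a, .a], [.b, .b], [.c, .c], [.d, .d], [.e, .e], [.f, .f]]

theorem known6_signs :
    ((known6 ++ squares).all fun w =>
      eqW (evC (w.map idx)) oneC || eqW (evC (w.map idx)) negC) = true := by decide +kernel

theorem letQ_rel {w : List Suz.Gen}
    (hw : w ∈ known6 ++ squares) :
    (w.map letQ).prod = 1 := by
  rw [prod_letQ, QuotientGroup.eq_one_iff]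
  have h := List.all_eq_true.1 known6_signs w hw
  rw [Bool.or_eq_true] at h
  rcases h with h | h
  · rw [(eqW_rep (rep_wordEl _) rep_one).1 h]; exact one_mem _
  · rw [(eqW_rep (rep_wordEl _) rep_negE).1 h]; exact Subgroup.mem_zpowers _

/-- a letter in both groups -/
noncomputable def pairG (x : Suz.Gen) : Q × ↥H :=
  if hx : x ∈ G2Four.letters then (letQ x, ⟨Spor.Suz.gen x, G2Four.gen_mem_H hx⟩) else 1

theorem pair_sq (x : Suz.Gen) : pairG x * pairG x = 1 := by
  rw [pairG]
  split
  · next hx =>
    refine Prod.ext ?_ (Subtype.ext (gen_sq x))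
    have := letQ_rel (w := [x, x]) (List.mem_append_right _ (by fin_cases hx <;> simp [squares]))
    simpa using this
  · simp

theorem prod_pair : ∀ w : List Suz.Gen, (∀ x ∈ w, x ≠ .g) →
    (w.map pairG).prod.1 = (w.map letQ).prod ∧
      ((w.map pairG).prod.2 : Cfsg.Spor.Suz) = (w.map Spor.Suz.gen).prod
  | [], _ => by simp
  | x :: w, hw => by
    obtain ⟨h1, h2⟩ := prod_pair w fun y hy => hw y (List.mem_cons_of_mem _ hy)
    have hx : x ∈ G2Four.letters := by
      have := hw x List.mem_cons_self
      cases x <;> simp_all [G2Four.letters]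
    simp [pairG, hx, h1, h2]

theorem pair_known6 : ∀ w ∈ known6, (w.map pairG).prod = 1 := by
  intro w hw
  obtain ⟨hk, hg⟩ := List.mem_filter.1 hw
  simp only [Bool.not_eq_true', List.contains_eq_mem, decide_eq_false_iff_not] at hg
  obtain ⟨h1, h2⟩ := prod_pair w fun x hx e => hg (e ▸ hx)
  exact Prod.ext (h1.trans (letQ_rel (List.mem_append_left _ hw)))
    (Subtype.ext (h2.trans (gen_known w hk)))

theorem step6 {C : CfsgLib.PresCert.Cert} {js : List CfsgLib.PresCert.Cert.Just}
    (V : CfsgLib.PresCert.Cert.Valid C js) (sel sub : List Suz.Gen) {b : ℕ}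
    (hsub : ∀ x ∈ sub, x ∈ sel) (hr : okRels C sel known6 .a = true)
    (hs : okSubs C sel (sub.map fun x => [x]) .a = true) (hK : CardLE (lettersGroup sub pairG) b) :
    CardLE (lettersGroup sel pairG) (C.n * b) := by
  have h := index_bound V pair_sq pair_known6 hr hs
  rw [wordsGroup_singletons] at h
  refine hK.step (Subgroup.closure_mono ?_) h
  rintro _ ⟨x, hx, rfl⟩
  exact ⟨x, hsub x hx, rfl⟩

/-- the graph of the correspondence -/
noncomputable def graph : Subgroup (Q × ↥H) := lettersGroup G2Four.letters pairG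

theorem card_graph_le : CardLE graph 251596800 := by
  have a1 : CardLE (lettersGroup [Suz.Gen.a] pairG) (2 * 1) :=
    step6 S7.valid [.a] [] (by simp) (by decide +kernel) (by decide +kernel)
      (by simpa [lettersGroup] using CardLE.bot)
  have a2 : CardLE (lettersGroup [Suz.Gen.a, .b] pairG) 10 :=
    step6 S6.valid [.a, .b] [.a] (by simp) (by decide +kernel) (by decide +kernel) a1
  have a4 : CardLE (lettersGroup [Suz.Gen.a, .b, .c, .d] pairG) 2160 :=
    step6 S4b.valid [.a, .b, .c, .d] [.a, .b] (by simp) (by decide +kernel) (by decide +kernel) a2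
  have a5 : CardLE (lettersGroup [Suz.Gen.a, .b, .c, .d, .e] pairG) 604800 :=
    step6 S3.valid [.a, .b, .c, .d, .e] [.a, .b, .c, .d] (by simp) (by decide +kernel)
      (by decide +kernel) a4
  exact step6 S2.valid [.a, .b, .c, .d, .e, .f] [.a, .b, .c, .d, .e] (by simp) (by decide +kernel)
      (by decide +kernel) a5

theorem pair_mem {x : Suz.Gen} (hx : x ∈ G2Four.letters) : pairG x ∈ graph :=
  Subgroup.subset_closure ⟨x, hx, rfl⟩

theorem Q_top : Subgroup.closure (Set.range fun k : Fin 6 => ((gen k : Cov) : Q)) = ⊤ := by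
  have h : Subgroup.closure (Set.range gen) = (⊤ : Subgroup Cov) := by
    refine Subgroup.map_injective Cov.subtype_injective ?_
    rw [MonoidHom.map_closure, ← MonoidHom.range_eq_map, Subgroup.range_subtype, ← Set.range_comp]
    rfl
  have := congrArg (Subgroup.map (QuotientGroup.mk' signs)) h
  rw [MonoidHom.map_closure, ← Set.range_comp,
    Subgroup.map_top_of_surjective _ (QuotientGroup.mk'_surjective _)] at this
  exact this

theorem gen_not_sign : gen 0 ∉ signs := fun h => by
  rcases signs_cases h with h | h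
  · have := (eqW_rep (rep_gen 0) rep_one).2 h
    revert this
    decide +kernel
  · have := (eqW_rep (rep_gen 0) rep_negE).2 h
    revert this
    decide +kernel

theorem equiv_H : Nonempty (Q ≃* ↥H) := by
  haveI : Finite ↥H := Nat.finite_of_card_ne_zero (by rw [card_H]; norm_num)
  haveI : Finite ↥graph := Nat.finite_of_card_ne_zero card_graph_le.1
  let p1 : ↥graph →* Q := (MonoidHom.fst Q ↥H).comp graph.subtype
  let p2 : ↥graph →* ↥H := (MonoidHom.snd Q ↥H).comp graph.subtype
  have hs2 : Function.Surjective p2 := by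
    rw [← MonoidHom.range_eq_top, eq_top_iff, ← G2Four.H_top, Subgroup.closure_le]
    rintro h ⟨x, hx, e⟩
    refine ⟨⟨pairG x, pair_mem hx⟩, Subtype.ext ?_⟩
    show ((pairG x).2 : Cfsg.Spor.Suz) = _
    rw [pairG, dif_pos hx, e]
  have hs1 : Function.Surjective p1 := by
    rw [← MonoidHom.range_eq_top, eq_top_iff, ← Q_top, Subgroup.closure_le]
    rintro _ ⟨k, rfl⟩
    have hx := G2Four.letter_mem k.val
    refine ⟨⟨pairG _, pair_mem hx⟩, ?_⟩
    show (pairG _).1 = _
    have hi : idx (G2Four.letter k.val) = k.val := G2Four.idx_letter k.isLt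
    rw [pairG, dif_pos hx, letQ, dif_pos (hi.symm ▸ k.isLt)]
    exact congrArg _ (congrArg gen (Fin.ext hi))
  have hc : Nat.card ↥graph = Nat.card ↥H := le_antisymm (by rw [card_H]; exact card_graph_le.2)
    (Nat.card_le_card_of_surjective _ hs2)
  let e2 := MulEquiv.ofBijective p2 ((Nat.bijective_iff_surjective_and_card _).2 ⟨hs2, hc⟩)
  let φ : ↥H →* Q := p1.comp e2.symm.toMonoidHom
  have hφ : Function.Surjective φ := hs1.comp e2.symm.surjective
  obtain ⟨K, i1, i2, hK, ⟨e⟩⟩ := G2Four.exists_equiv
  obtain ⟨hq⟩ := CfsgLib.G2J2.exists_four hK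
  haveI : IsSimpleGroup ↥(Cfsg.Lie.chevG2.group K) :=
    (CfsgLib.Chev.simple_group CfsgLib.Chev.stdG2 (by decide +kernel) CfsgLib.Chev.conn_G2
      (CfsgLib.Chev.perfect_of_perfB CfsgLib.Chev.stdG2 CfsgLib.Chev.perfB_G2
        ⟨hq.omega, CfsgLib.G2J2.omega_ne_zero, CfsgLib.G2J2.omega_ne_one⟩)).1
  haveI : Nontrivial ↥H := e.toEquiv.nontrivial
  haveI : IsSimpleGroup ↥H :=
    IsSimpleGroup.isSimpleGroup_of_surjective e.symm.toMonoidHom e.symm.surjective
  rcases Subgroup.Normal.eq_bot_or_eq_top (inferInstance : φ.ker.Normal) with h | h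
  · exact ⟨(MulEquiv.ofBijective φ ⟨(MonoidHom.ker_eq_bot_iff φ).1 h, hφ⟩).symm⟩
  · exfalso
    obtain ⟨a, ha⟩ := hφ ((gen 0 : Cov) : Q)
    have hm : a ∈ φ.ker := h ▸ Subgroup.mem_top a
    rw [MonoidHom.mem_ker, ha] at hm
    exact gen_not_sign ((QuotientGroup.eq_one_iff _).1 hm)

theorem card_Cov : Nat.card Cov = 503193600 := by
  obtain ⟨e⟩ := equiv_H
  rw [Subgroup.card_eq_card_quotient_mul_card_subgroup signs, card_signs,
    Nat.card_congr e.toEquiv, card_H]

end CfsgLib.KnownB.G2FourMult
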