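import Cfsg.Agent.Lib.KnownB.G2FourMult.Group
import Cfsg.Agent.Lib.KnownB.Mult.Reduce
import Cfsg.Agent.Lib.Schur.Lift

/-!
The double cover of the group of type G2 over four elements has trivial multiplier, so the multiplier
of that group has order two.
-/

set_option autoImplicit false
set_option maxRecDepth 100000

namespace CfsgLib.KnownB.G2FourMult

open CfsgLib.KnownB.Mult Cfsg.Lie CfsgLib.G2J2
open CfsgLib.Spor.Suz (H)
open scoped commutatorElement

theorem trivial_multiplier : Cfsg.HasCyclicSchurMultiplier Cov 1 := by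
  refine hasTrivialMultiplier_of_primeCond fun p hp => ?_
  by_cases h2 : p = 2
  · subst h2
    refine Cert.primeCond_of_notMem cert2_core ?_ (m := 61425)
      (card_Cov.trans (by norm_num [cert2])) (by norm_num)
    exact Cert.notMem_of_levels cert2_core ptAct appP Nat.beq (fun h v => ptAct_app h v)
      (fun v w => by rw [Nat.beq_eq]) levels2 levels2_ok levels2_prod
  by_cases h3 : p = 3
  · subst h3
    exact Cert.primeCond cert3_valid (m := 18636800)
      (card_Cov.trans (by norm_num [cert3])) (by norm_num)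
  by_cases h5 : p = 5
  · subst h5
    exact Cert.primeCond cert5_valid (m := 20127744)
      (card_Cov.trans (by norm_num [cert5])) (by norm_num)
  refine primeCond_of_cyclic default (isCyclic_sylow (p := p) ?_ default)
  intro hd
  rw [card_Cov, show (503193600 : ℕ) = 2 ^ 13 * 3 ^ 3 * 5 ^ 2 * 91 by norm_num] at hd
  have hc : ∀ q k : ℕ, q.Prime → p ≠ q → Nat.Coprime (p ^ 2) (q ^ k) := fun q k hq hne =>
    Nat.Coprime.pow 2 k ((Nat.coprime_primes hp.out hq).2 hne)
  have h91 : p ^ 2 ∣ 91 := (((hc 2 13 Nat.prime_two h2).mul_right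
    (hc 3 3 Nat.prime_three h3)).mul_right (hc 5 2 Nat.prime_five h5)).dvd_of_dvd_mul_left hd
  have hle : p ^ 2 ≤ 91 := Nat.le_of_dvd (by norm_num) h91
  have h10 : p < 10 := by nlinarith
  have := hp.out.two_le
  interval_cases p <;> revert h91 <;> norm_num

theorem negE_mem_commutator : negE ∈ commutator Cov := by
  have ha := Cert.rep_ev cert2_core commPair.1
  have hb := Cert.rep_ev cert2_core commPair.2
  have e := (eqW_rep (Rep.mul ha hb) (Rep.mul rep_negE (Rep.mul hb ha))).1
    (eqW_iff.2 commPair_check)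
  have e' : negE = ⁅P (cert2.gen (code words2 tab2 tab2_eq)) commPair.1,
      P (cert2.gen (code words2 tab2 tab2_eq)) commPair.2⁆ := by
    rw [commutatorElement_def, e]
    group
  rw [e']
  exact Subgroup.commutator_mem_commutator (Subgroup.mem_top _) (Subgroup.mem_top _)

variable {F : Type*} [Field F] [Fintype F]

theorem hasCyclicSchurMultiplier (hF : Fintype.card F = 4) :
    Cfsg.HasCyclicSchurMultiplier ↥(chevG2.group F) 2 := by
  obtain ⟨hq⟩ := exists_four hF
  obtain ⟨e⟩ := equiv_H
  obtain ⟨e'⟩ := CfsgLib.Spor.Suz.G2Four.h_equiv F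
  let θ : Q ≃* ↥(chevG2.group F) := e.trans e'
  let σ : Cov →* ↥(chevG2.group F) := θ.toMonoidHom.comp (QuotientGroup.mk' signs)
  have hker : σ.ker = signs := by
    rw [MonoidHom.ker_comp_of_injective _ _ θ.injective, QuotientGroup.ker_mk']
  have hs : Cfsg.IsStemExtension σ := by
    refine ⟨θ.surjective.comp (QuotientGroup.mk'_surjective _), ?_, ?_⟩
    · rw [hker]; exact signs_le_center
    · rw [hker]; exact Subgroup.zpowers_le.2 negE_mem_commutator
  obtain ⟨m⟩ := CfsgLib.Schur.mult_equiv_ker_of_trivial σ hs trivial_multiplier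
  have : Fact (Nat.Prime 2) := ⟨by norm_num⟩
  exact CfsgLib.Schur.hasSchurMultiplier_iff.2 ⟨(mulEquivOfPrimeCardEq (p := 2)
    (by simp [Nat.card_zmod]) (by rw [hker, card_signs])).trans m.symm⟩

end CfsgLib.KnownB.G2FourMult
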